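import Cfsg.Agent.TAB.F23C.S75_m3
import Cfsg.Agent.TAB.F24C.E22_m3
import Cfsg.Agent.TAB.F24C.DFixZ_m3
import Cfsg.Agent.TAB.Eng.Sep_m3
import Cfsg.Agent.Lib.FinFast
import Cfsg.Agent.TAB.F24.G.Wd_m3
import Cfsg.Agent.TAB.F24C.E33_m3
import Cfsg.Agent.TAB.F23C.Pw_m3
import Cfsg.Agent.TAB.F24C.E63_m3
import Cfsg.Agent.TAB.F24C.E74_m3
import Cfsg.Agent.TAB.F24C.E83_m3
import Cfsg.Agent.FastGrp
import Cfsg.Agent.Prune
set_option linter.all false

section
prune_inst 0x7f00000000000000000000000000000000000000000000000000000000000000000000000000000000000000000000000000000000000000000000000000000000000000000000000000000000000000003fffffffffffffffffffffffffffbeffbdffffffff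

-- part: TAB/F24C/DO
section
set_option linter.all false
open scoped Cfsg.Agent.FastGrp

/-!
# `Fi₂₄` : odd centralising elements, rational elements (helper16, TAB)
-/

set_option autoImplicit false
set_option maxRecDepth 100000
set_option Elab.async false

namespace Cfsg.Agent.TAB.F24C

open Cfsg.Agent.TAB.Eng Cfsg.Agent.TAB.PE Cfsg.Agent.TAB.F24
open Cfsg.Agent.H52.ThreeFi24 (q3 q3_of)
open Cfsg.Spor

/-- `w * Y t ^ j = Y t ^ k * w` in `Fi24` -/
noncomputable def cjY (t j k w : ℕ) : Bool :=
  cjB cx (ap (yc.getD t 0) (Nat.mul (ye.getD t 0) j)) (ap (yc.getD t 0) (Nat.mul (ye.getD t 0) k)) w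

theorem cjY_spec {t j k w : ℕ} (h : cjY t j k w = true) : el w * q3 (Y t) ^ j = q3 (Y t) ^ k * el w := by
  rw [q3_Y, ← pow_mul, ← pow_mul]
  exact cjB_spec ok.toOk0 rig (acts _ _) (acts _ _) h

theorem el_odd {c : ℕ} (h : odd c = true) : el c ∉ commutator Fi24 := fun h1 => by
  have h2 := q3_ev (el3_odd h)
  rw [map_mul, q3_el3, q3_of] at h2
  exact l_odd ((Subgroup.mul_mem_cancel_left _ h1).1 h2)

theorem el_even {c : ℕ} (h : odd c = false) : el c ∈ commutator Fi24 := q3_el3 c ▸ q3_ev (el3_even h)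

theorem odd_cen {t w : ℕ} (h : (odd w && cjY t 1 1 w) = true) :
    ∃ w ∉ commutator Fi24, w * q3 (Y t) = q3 (Y t) * w := by
  rw [Bool.and_eq_true] at h
  have h1 := cjY_spec h.2
  rw [pow_one] at h1
  exact ⟨_, el_odd h.1, h1⟩

theorem conj_cjY {t k w : ℕ} (h : cjY t 1 k w = true) : IsConj (q3 (Y t)) (q3 (Y t) ^ k) := by
  have h1 := cjY_spec h
  rw [pow_one] at h1
  exact isConj_iff.2 ⟨el w, by rw [h1, mul_inv_cancel_right]⟩

theorem odd_sq {s t : ℕ} (e : yc.getD s 0 = yc.getD t 0 ∧ ye.getD s 0 = ye.getD t 0 * 2)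
    (h : ∃ w ∉ commutator Fi24, w * q3 (Y t) = q3 (Y t) * w) : ∃ w ∉ commutator Fi24, w * q3 (Y s) = q3 (Y s) * w := by
  obtain ⟨w, h1, h2⟩ := h
  refine ⟨w, h1, ?_⟩
  rw [q3_Y, e.1, e.2, pow_mul, ← q3_Y]
  exact (show Commute w _ from h2).pow_right 2

theorem rat_two {G : Type} [Group G] {x : G} {n a b : ℕ} (ho : orderOf x = n) (ha : IsConj x (x ^ a))
    (hb : IsConj x (x ^ b)) (h : ∀ k < n, Nat.Coprime k n → ∃ i < 12, ∃ j < 2, a ^ i * b ^ j % n = k) :
    ∀ k < n, Nat.Coprime k n → IsConj x (x ^ k) := by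
  have h1 : ∀ {a b : ℕ}, IsConj x (x ^ a) → IsConj x (x ^ b) → IsConj x (x ^ (a * b)) := fun {a b} ha hb => by
    rw [pow_mul]
    exact hb.trans (ha.pow b)
  have h2 : ∀ {a : ℕ}, IsConj x (x ^ a) → ∀ i, IsConj x (x ^ a ^ i) := fun {a} ha i => by
    induction i with
    | zero => rw [pow_zero, pow_one]
    | succ i ih => exact h1 ih ha
  intro k hk hc
  obtain ⟨i, -, j, -, rfl⟩ := h k hk hc
  rw [← ho, pow_mod_orderOf]
  exact h1 (h2 ha i) (h2 hb j)

theorem o22 : ∃ w ∉ commutator Fi24, w * q3 (Y 22) = q3 (Y 22) * w := odd_cen (w :=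
  0x57687985765456b7c6b53864975869b7c869b75864b7586a7948b537c46b5c64b756b7536453c842b73647569b7ac869b75a8649b75c864b75326b7)
  (by decide +kernel)

theorem o51 : ∃ w ∉ commutator Fi24, w * q3 (Y 51) = q3 (Y 51) * w := odd_cen (w :=
  0xb56b567c68b7c6b5c64b79586b7c869b75864b753645c6b7c86b7569748b596a79837c463b5c64b75653842b7536495a869b7ac869b75864b756175284b9753)
  (by decide +kernel)

theorem o27 : ∃ w ∉ commutator Fi24, w * q3 (Y 27) = q3 (Y 27) * w :=
  odd_cen (w := 0xcb567857c6b5c6b796876b5c6b78697586ab79c68b76b5c6b78675639b8c271) (by decide +kernel)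

theorem o33 : ∃ w ∉ commutator Fi24, w * q3 (Y 33) = q3 (Y 33) * w := odd_cen (w :=
  0x76b5968475c6b7c86b7564b7536475c69b7c869b7586748b5964ab59687c63b5c64b753864b75c649b75c862b7364586b7ac869b7586b7564538649)
  (by decide +kernel)

theorem o54 : ∃ w ∉ commutator Fi24, w * q3 (Y 54) = q3 (Y 54) * w :=
  odd_cen (w := 0x5342b513c2453) (by decide +kernel)

theorem o65 : ∃ w ∉ commutator Fi24, w * q3 (Y 65) = q3 (Y 65) * w := odd_cen (w := 0x98a) (by decide +kernel)

theorem o67 : ∃ w ∉ commutator Fi24, w * q3 (Y 67) = q3 (Y 67) * w := odd_cen (w :=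
  0xb67c8b76b567849586b7c869b73864756b7c869b7586789ab5968b74c63b564153427386475c6b7695ac847) (by decide +kernel)

theorem o83 : ∃ w ∉ commutator Fi24, w * q3 (Y 83) = q3 (Y 83) * w := odd_cen (w :=
  0x768b57c6b5c6b78675968b7645c6b765c84b7364b7569b7c869b75867894ab596837c46b5c64b75862b7364586b7c869b75864b7586b75c864953)
  (by decide +kernel)

theorem r49 : IsConj (q3 (Y 49)) (q3 (Y 49) ^ 2) := conj_cjY (w :=
  0x567879c68b576b56475869b7c869b7867564b753c8649b7586b786975c86ab7968576b5c6b786975a869b7c86b76453423456b7c869b75a8649b758649b75c86b7861952ca4b73)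
  (by decide +kernel)

theorem r553 : IsConj (q3 (Y 55)) (q3 (Y 55) ^ 3) := conj_cjY (w :=
  0x8b576b5679876b5c64b56b73c64b56b7c869b7586475364b56789a9c8b3746541b3c62b7538649b75a869b7ac869b75a8649b758649b75ac869b7a86975ca86419)
  (by decide +kernel)

theorem r555 : IsConj (q3 (Y 55)) (q3 (Y 55) ^ 5) := conj_cjY (w :=
  0xb7c68b579685765c4b5c6b7c86b75649584b736475c86b7c869b75864b75678a98b7c46b5c64b7536454382b73864b75c86b7c869b75a869758649b7532ac641b5)
  (by decide +kernel)

theorem r76 : IsConj (q3 (Y 76)) (q3 (Y 76) ^ 7) := conj_cjY (w :=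
  0xb5c6b567c68b576b56475c69b73c864b75678b9c6ab75968b7c6b5c64b7538649b758649b75c862b713624536475a8697ca89)
  (by decide +kernel)

/-- **the field `c83`** -/
theorem c83Y : ∃ w ∈ commutator Fi24, w * q3 (Y 83) * w⁻¹ = q3 (Y 83) ^ 2 := by
  have h := cjY_spec (t := 83) (j := 1) (k := 2) (w :=
    0xb568b57c6b5c6b78675968b7c64b56b78675c649b53864756b7c869b75864ab759c68b5746b5c63b78641753642b7536495869b7c869b75a8649b75c86b74c63b5264b753c641b)
    (by decide +kernel)
  rw [pow_one] at h
  exact ⟨_, el_even (by decide +kernel), mul_inv_eq_of_eq_mul h⟩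

/-- **box o** -/
theorem boxO_of (d : BoxD Y) : BoxO Y where
  odd := by
    simp only [List.mem_cons, List.not_mem_nil, or_false, forall_eq_or_imp, forall_eq]
    exact ⟨odd_sq (by decide +kernel) o22, o22, odd_sq (by decide +kernel) o51, o27, o33, o51, o54, o65, o67⟩
  rat := by
    simp only [List.mem_cons, List.not_mem_nil, or_false, forall_eq_or_imp, forall_eq]
    exact ⟨rat_two ((A.ordT_pwT d).1 49 (by decide)) r49 r49 (by decide +kernel),
      rat_two ((A.ordT_pwT d).1 55 (by decide)) r553 r555 (by decide +kernel),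
      rat_two ((A.ordT_pwT d).1 76 (by decide)) r76 r76 (by decide +kernel)⟩

end Cfsg.Agent.TAB.F24C
end

-- part: TAB/F24C/N83
section
set_option linter.all false
open scoped Cfsg.Agent.FastGrp

/-!
# `Fi₂₄` : the two classes of elements of order 33 (helper16, TAB)
-/

set_option autoImplicit false
set_option maxRecDepth 100000
set_option Elab.async false

namespace Cfsg.Agent.TAB.F24C

open Cfsg.Agent.TAB.Eng Cfsg.Agent.TAB.PE Cfsg.Agent.TAB.F24
open Cfsg.Agent.Lib.PermNetPt (winv force force_eq)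
open Cfsg.Agent.Fischer.Fi24Rep (rho)
open Cfsg.Agent.H52.ThreeFi24 (q3)
open Cfsg.Spor

/-- distinct conjugates under a bigger centralizer -/
theorem card_conj_le {G : Type} [Group G] [Finite G] {x : G} {k n : ℕ} (c : Fin n → G)
    (hc : ∀ i, c i * x ^ k = x ^ k * c i) (hi : Function.Injective fun i => c i * x * (c i)⁻¹) :
    n * Nat.card (Subgroup.centralizer ({x} : Set G)) ≤ Nat.card (Subgroup.centralizer ({x ^ k} : Set G)) := by
  have h0 : ∀ g : Subgroup.centralizer ({x} : Set G), Commute (g : G) x := fun g =>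
    Subgroup.mem_centralizer_singleton_iff.1 g.2
  rw [show n * _ = Nat.card (Fin n) * _ by rw [Nat.card_fin], ← Nat.card_prod]
  refine Nat.card_le_card_of_injective (fun u => ⟨c u.1 * u.2, Subgroup.mem_centralizer_singleton_iff.2
    (Commute.mul_left (hc u.1) ((h0 u.2).pow_right k))⟩) ?_
  rintro ⟨i, g⟩ ⟨j, h⟩ e
  have h1 : c i * g = c j * h := congrArg Subtype.val e
  have h2 : ∀ i (g : Subgroup.centralizer ({x} : Set G)), c i * x * (c i)⁻¹ = c i * g * x * (c i * g)⁻¹ := fun i g => by
    rw [mul_assoc (c i) g, (h0 g).eq]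
    group
  obtain rfl : i = j := hi ((h2 i g).trans (h1 ▸ (h2 j h).symm))
  exact congrArg (Prod.mk i) (Subtype.ext (mul_left_cancel h1))

/-- the inverse of a power of a word on points -/
noncomputable def tr (c e : ℕ) : ℕ → ℕ :=
  Nat.rec (motive := fun _ => ℕ → ℕ) (fun p => p) (fun _ ih p => force (winv (cx.nw c) p) ih) e

theorem tr_eq (c : ℕ) : ∀ e p, tr c e p = rho (el c ^ e)⁻¹ p
  | 0, p => by rw [pow_zero, inv_one, map_one]; rfl
  | e + 1, p => by
    have h : tr c (e + 1) p = tr c e (winv (cx.nw c) p) := force_eq _ _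
    have h1 : winv (cx.nw c) p = rho (el c)⁻¹ p := by
      rw [map_inv, Equiv.Perm.eq_inv_iff_eq, ok.toOk0.winv]
    rw [h, tr_eq c e, h1, pow_succ', mul_inv_rev, map_mul, Equiv.Perm.mul_apply]

theorem tr_conj {a d p v : ℕ} (h : (Nat.beq (tr d 2 p) p && Nat.beq (tr d 1 (tr a 1 (tr d 1 p))) v) = true) :
    rho ((el d)⁻¹ * el a * (el d)⁻¹⁻¹)⁻¹ p = v := by
  rw [Bool.and_eq_true] at h
  have h1 := Nat.eq_of_beq_eq_true h.1
  have h2 := Nat.eq_of_beq_eq_true h.2
  rw [tr_eq, pow_two, mul_inv_rev, map_mul, Equiv.Perm.mul_apply, map_inv, Equiv.Perm.inv_eq_iff_eq] at h1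
  rw [tr_eq, tr_eq, tr_eq, pow_one, pow_one, map_inv rho (el d), h1] at h2
  rw [inv_inv, mul_inv_rev, mul_inv_rev, inv_inv, map_mul, map_mul, Equiv.Perm.mul_apply, Equiv.Perm.mul_apply,
    map_inv rho (el d), h2]

theorem n83_abs {G : Type} [Group G] [Finite G] {N : Subgroup G} {x e v : G} (ho : orderOf x = 33) (hx : x ∈ N)
    (he : e ∉ N) (hc : e * x = x * e) (hv : v * x * v⁻¹ = x ^ 2) (c : Fin 4 → G) (h1 : ∀ i, c i * x ^ 3 = x ^ 3 * c i)
    {f : G → ℕ} {u : Fin 5 → ℕ} (hu : Function.Injective u) (h2 : ∀ i, f (c i * x * (c i)⁻¹) = u i.succ)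
    (h3 : f (x ^ 23) = u 0) (h4 : Nat.card (Subgroup.centralizer ({x ^ 3} : Set G)) ≤ 264) : ¬ IsConj x (x ^ 5) := by
  intro h
  have h5 : ∀ n : ℕ, IsConj x (x ^ 2 ^ n) := fun n => by
    induction n with
    | zero => rw [pow_zero, pow_one]
    | succ n ih => rw [pow_succ, pow_mul]; exact (isConj_iff.2 ⟨v, hv⟩).trans (ih.pow 2)
  have h6 := h.trans ((h5 6).pow 5)
  rw [← pow_mul, ← pow_mod_orderOf, ho, show 2 ^ 6 * 5 % 33 = 23 by norm_num] at h6
  obtain ⟨g, hg⟩ := isConj_iff.1 h6
  have h7 := card_conj_le (x := x) (k := 3) (Fin.cons g c : Fin 5 → G) (Fin.cases (by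
    rw [Fin.cons_zero, ← mul_inv_eq_iff_eq_mul, ← conj_pow, hg, ← pow_mul, ← pow_mod_orderOf, ho]) h1)
    (Function.Injective.of_comp (f := f) (by
      rwa [show (f ∘ fun i => (Fin.cons g c : Fin 5 → G) i * x * ((Fin.cons g c : Fin 5 → G) i)⁻¹) = u from
        funext (Fin.cases (by rw [Function.comp_apply, Fin.cons_zero, hg]; exact h3) h2)]))
  have h8 : Subgroup.zpowers x ≤ Subgroup.centralizer {x} :=
    Subgroup.zpowers_le.2 (Subgroup.mem_centralizer_singleton_iff.2 rfl)
  obtain ⟨m, h9⟩ := Subgroup.card_dvd_of_le h8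
  rw [Nat.card_zpowers, ho] at h9
  have h10 : 0 < Nat.card (Subgroup.centralizer ({x} : Set G)) := Nat.card_pos
  have h11 := Subgroup.eq_of_le_of_card_ge h8 (by rw [Nat.card_zpowers, ho]; omega)
  exact he (Subgroup.zpowers_le.2 hx (h11 ▸ Subgroup.mem_centralizer_singleton_iff.2 hc))

/-- the three transpositions -/
def d83 : Fin 4 → ℕ := ![0, 0x5968c7b46857968a7b968c7b65432123456b7c869b7a8697586b7c86495,
  0xb6c37b46857b968a57b968c7b654312123456b7c869b75a869b7586b7c641b3,
  0xc7b657687b9468a57968c7b65432123456b786975ca869b7864756bc7]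

/-- **the field `n83`** -/
theorem n83_of (h23 : Box23) (d : BoxD Y) : ¬ IsConj (q3 (Y 83)) (q3 (Y 83) ^ 5) := by
  obtain ⟨e, h1, h2⟩ := o83
  obtain ⟨v, -, h3⟩ := c83Y
  have h4 : q3 (Y 83) = el 0x9426ca815b37 := (q3_Y 83).trans (pow_one _)
  have h5 : ∀ i, cjY 83 3 3 (d83 i) = true := by decide +kernel
  have h6 : ∀ i : Fin 4, (Nat.beq (tr (d83 i) 2 0) 0 && Nat.beq (tr (d83 i) 1 (tr 0x9426ca815b37 1 (tr (d83 i) 1 0)))
    (![48326, 307840, 70250, 46390, 90458] i.succ)) = true := by decide +kernel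
  refine n83_abs ((A.ordT_pwT d).1 83 (by decide)) (q3_ev (d.ev 83 (by decide))) h1 h2 h3 (fun i => (el (d83 i))⁻¹)
    (fun i => (show Commute _ _ from cjY_spec (h5 i)).inv_left) (f := fun g => rho g⁻¹ 0)
    (u := ![48326, 307840, 70250, 46390, 90458]) (by decide) (fun i => by rw [h4]; exact tr_conj (h6 i)) ?_
    (cen_pow h23 d (boxO_of d) (s := 36) (by decide +kernel))
  rw [h4, ← tr_eq]
  decide +kernel

end Cfsg.Agent.TAB.F24C
end

-- part: TAB/F24/TabT
section
set_option linter.all false

/-- decoders of the packed data (elaboration time only) -/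
private noncomputable def pk61d (b S i : Nat) : Nat := Nat.mod (Nat.shiftRight S (Nat.mul b i)) (Nat.shiftLeft (nat_lit 1) b)
private noncomputable def pk61c {α : Type} (t : Nat) (a : α) (f : Nat → α) : α := Nat.rec a (fun k _ => f k) t
private noncomputable def pk61f {α : Type} (t : Nat) (f : Nat → α) : α := Nat.rec (f Nat.zero) (fun k _ => f (Nat.succ k)) t
private noncomputable def pk61z (t : Nat) : Int := pk61f t fun t =>
  pk61c (Nat.mod t (nat_lit 2)) (Int.ofNat (Nat.div t (nat_lit 2))) fun _ => Int.negSucc (Nat.div t (nat_lit 2))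
private noncomputable def pk61l {α : Type} (f : Nat → α) (s e : Nat) (tl : List α) : List α :=
  pk61f e fun e => Nat.rec tl (fun k ih => List.cons (pk61f (Nat.sub e (Nat.succ k)) f) ih) (Nat.sub e s)

/-!
# The table of `Fi₂₄'` : data

80 rows are irreducible characters, 14 are sums of two.  The table is given by its columns (helper16, TAB)
-/

set_option autoImplicit false
set_option maxRecDepth 100000

namespace Cfsg.Agent.TAB.F24

open Cfsg.Agent.TAB.Eng Cfsg.Agent.TAB.Glue Cfsg.Agent.TAB.Cov

/-- the values at the type 0 -/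
noncomputable def cT0 : List ℤ :=
  (by
  refine (?fq9001 : ((pk61l (fun i1 => (pk61z (pk61d (nat_lit 40) 
    (nat_lit 0xbf402ad500ba7829c2e0b83a80000099451dfca08cffe834748279659e007b4c51f2c047b8100fe03ce720000032bd6ea10011366a41400a095696000011d7b660000061df149c7a5197008356dcdba0748b1a19cc68e3977d9e67baf000005fe606d94058cb8199c055bc78000053209de3e64ef9ab49804aa6e3800048cb0201a648cb0201a645f16ec00043d2d80000424cdba6004233e345fa40dff000003738e70a1433cc0b99b033cc0b99b02fad44dc022408611d0023e818000022df484f0021266dd3001f5a92c0001db941783c19e605ccd8194134f0e615b380724414fa517f8614b804a3e012a59dc6b011fe7800001162ec9f001129e596e2109336e9800db60312180cf302e66c0ba7829c2e07fdd5e77007f2b5500006c16055820679817336067981733604bc58d5000465856600043ce9ad2803f8d0000003546e75c403037e590002b07780000254b3b8d601876c30da017e8055aa017adbc2900117c5bb0000b799c2b8009f6a6f200096aead62008499b74c007f801c8e004bc58d5000317bca0000218b0f000013009700000d5f18f0000978b1aa0005d41e900004d516ba000446c2f20003e66746000094735e000032de22000010f4b60000079ce4000001c10a00000043be0000000002)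 i1))) (nat_lit 0) (nat_lit 94) List.nil) : List ℤ)
    = ?xq9001 → (List ℤ)) ?hq9001; (case hq9001 => (set_option maxRecDepth 1000000 in conv => lhs; reduce)); intro _; exact ?xq9001 : List ℤ)

/-- the values at the type 1 -/
noncomputable def cT1 : List ℤ :=
  (by
  refine (?fq9002 : ((pk61l (fun i1 => (pk61z (pk61d (nat_lit 18) 
    (nat_lit 0xdabfcb51f00000d4a0a61d1fe0088b01481f0000221009450276001067c04eb1a3fedc5f6b0cc379e00001a940b58fc0000f379999809fffd31a64c699c0000000179ff767e80000cdfacbe4f396c2560294bfc00000fc00bcff700011a3cc6c9edae613eed39865907da2b00000180ff48b88b9802b79c2f93248b97370540005a7d48cd8513616bfc4600224a00000210ed56ff60000bd2932b68ffaa135bc14ff09ae058df24d8866b31b2381d50057fc3f0001c0034f00b6a80690062e822f2052e408a10088800b600b90010a001040002) i1))) (nat_lit 0) (nat_lit 94) List.nil) : List ℤ)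
    = ?xq9002 → (List ℤ)) ?hq9002; (case hq9002 => (set_option maxRecDepth 1000000 in conv => lhs; reduce)); intro _; exact ?xq9002 : List ℤ)

/-- the values at the type 2 -/
noncomputable def cT2 : List ℤ :=
  (by
  refine (?fq9003 : ((pk61l (fun i1 => (pk61z (pk61d (nat_lit 24) 
    (nat_lit 0x785000754e0000000233d5fa8b57453c9ffb8c13fb749e058000061c1005e85400671ff024860001e141aa8ff0d325f44bbb328c81e9bffff112d40037dc04e000055e59905dd80000000029a59029a59477fff4e00004661ff490afa2bffff4ae26b1e8c4f4334b03d717d61c1004e0000796b0059ef004780000c04bc527ad82a3f6623bdc44e8a061ae1e016ba4f4e000011170037b61d05dd80092a1807a313251dae2be270145000310182457f36149eb627a9002d1e0012d4282c00000ecb44082d000000001327560d6b5a13cc2a1b0e9016e700153bb80bdd200ac2e20783cc05588e09e15007d200005b0004d3000097f00330aa02e89001333a01a2f2015046006c5e0057220027b600126400090a0002be000002) i1))) (nat_lit 0) (nat_lit 94) List.nil) : List ℤ)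
    = ?xq9003 → (List ℤ)) ?hq9003; (case hq9003 => (set_option maxRecDepth 1000000 in conv => lhs; reduce)); intro _; exact ?xq9003 : List ℤ)

/-- the values at the type 3 -/
noncomputable def cT3 : List ℤ :=
  (by
  refine (?fq9004 : ((pk61l (fun i1 => (pk61z (pk61d (nat_lit 14) 
    (nat_lit 0x7f7d3af58000000001cb05b1c33c0f80834452e1c011d01300bccb641a6c8393b8158321619500000510418000000009c030405bb000066f000039111a5d1b1e9c2d037b0ee3467c000078c00025f8ac13400d3829bc8c32d906b0607404f06788a61f20000155026044e0ed70ee4a4f08fcc7417c0a3228807e608341bc00486f61b4075418085170530538081c1c804a007c005403600d002f020c06103880600020002) i1))) (nat_lit 0) (nat_lit 94) List.nil) : List ℤ)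
    = ?xq9004 → (List ℤ)) ?hq9004; (case hq9004 => (set_option maxRecDepth 1000000 in conv => lhs; reduce)); intro _; exact ?xq9004 : List ℤ)

/-- the values at the type 4 -/
noncomputable def cT4 : List ℤ :=
  (by
  refine (?fq9005 : ((pk61l (fun i1 => (pk61z (pk61d (nat_lit 17) 
    (nat_lit 0xa410e84f45ff800000000a8bf38f41139d5dfe1b301d879d87c4830022f0ec3a7ddc6c481f0171c008dc00690143f0000403ac36fe0000000032881298114800000099fc00000577752a85898a1e04ec0732c00dfc054099c62e9f00000ba0a3e03363f901e9ef8037c863ab004d104da238c2a93115980a8099c647a4173dc36b073f0223522200c0f04d00058001b8c58981a40462a196e0f32451001dab0176838521f9c24b801dbc571012de0bc2094c0011813320a3a01b180f6c040c00a70069001540002) i1))) (nat_lit 0) (nat_lit 94) List.nil) : List ℤ)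
    = ?xq9005 → (List ℤ)) ?hq9005; (case hq9005 => (set_option maxRecDepth 1000000 in conv => lhs; reduce)); intro _; exact ?xq9005 : List ℤ)

/-- the values at the type 5 -/
noncomputable def cT5 : List ℤ :=
  (by
  refine (?fq9006 : ((pk61l (fun i1 => (pk61z (pk61d (nat_lit 23) 
    (nat_lit 0x17330fad3d2b57800081bf0c00000156c5f10322e98a7acc4fff9753df1df24e06977c023bd80652c17123e1032307cf82931ecd0a8ffe4a8d9ceefd41073ff00000088c4408e2ffa06fc4206fc2493e00951ff95b4b02eda52243ffc81bf15309080663267078f91a2740d5c002c798e4834615f9c0176d2a0e70de40df8a00dff1e97b04fecc87cf830596002cdc60081918031c409ff6023c15206ff901aa68c846c0000000075bfac33ae824f4b863cdf2d7d283e40000b4869545c81bee002dfd2066d500cfe5e06d2de04e59c04175847fb804718032b5b80b9410475900681a01037e000103814c1c00262e00685c0bfb300d2f0018b4800972000c1500042d002a440010b0000f7000002) i1))) (nat_lit 0) (nat_lit 94) List.nil) : List ℤ)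
    = ?xq9006 → (List ℤ)) ?hq9006; (case hq9006 => (set_option maxRecDepth 1000000 in conv => lhs; reduce)); intro _; exact ?xq9006 : List ℤ)

/-- the values at the type 6 -/
noncomputable def cT6 : List ℤ :=
  (by
  refine (?fq9007 : ((pk61l (fun i1 => (pk61z (pk61d (nat_lit 21) 
    (nat_lit 0xb855e7d1a736fff80000240a6896d2007d4c34b0bc7e7fefe96f4961402e680275100044b05ab3a5328d743783dc741b0ff8e930c30a9837b0000000006f61cca0000000000001de7fd431fe32bef34dc110d7fc000003f232116019308a87471e6b7000a9979216fc6b3fe69b826cc73000000c12a6217fe0ca0a0a2cecdb9fe37b181c1ee29db60936fc260dd3e2a414cf703d5be69b812bc638295b82f85e951a0117088107fcde12c130d00e440128ce8459c018f9c1844e8b47802e80a2cee016b7a0034f016812131ad07327813a803028006fe405e7201b90400dc00207c0072c8099a801cde011f8003650013380013200002) i1))) (nat_lit 0) (nat_lit 94) List.nil) : List ℤ)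
    = ?xq9007 → (List ℤ)) ?hq9007; (case hq9007 => (set_option maxRecDepth 1000000 in conv => lhs; reduce)); intro _; exact ?xq9007 : List ℤ)

/-- the values at the type 7 -/
noncomputable def cT7 : List ℤ :=
  (by
  refine (?fq9008 : ((pk61l (fun i1 => (pk61z (pk61d (nat_lit 13) 
    (nat_lit 0x53eccb6ffad8c00057c0000bd1c008872f401b03481332f38000ccc00033f80009be0000000000b605b15b22b80e002d80005000b6416c0b60000e38d7f00005b09c000005b16c80000002d80000cfe73700016bcccc38e33315ecf000000b59f44b602bc332980057a71c34000000000d10b5895c6e400005a85b06ac0d006785b040e1380f701fc2a406c05a84e00cc01c00e0074034002) i1))) (nat_lit 0) (nat_lit 94) List.nil) : List ℤ)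
    = ?xq9008 → (List ℤ)) ?hq9008; (case hq9008 => (set_option maxRecDepth 1000000 in conv => lhs; reduce)); intro _; exact ?xq9008 : List ℤ)

/-- the values at the type 8 -/
noncomputable def cT8 : List ℤ :=
  (by
  refine (?fq9009 : ((pk61l (fun i1 => (pk61z (pk61d (nat_lit 9) 
    (nat_lit 0x200600048196001fa7c0100200003e547fb7ca6810010180006320000592c80000005d00168cf07c74000000000009c2c31836993003c010011202314c5893c007d1b0a400004b8003600001248a8a37800f05f4114d1c500000000300a840340d030783a09020280202) i1))) (nat_lit 0) (nat_lit 94) List.nil) : List ℤ)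
    = ?xq9009 → (List ℤ)) ?hq9009; (case hq9009 => (set_option maxRecDepth 1000000 in conv => lhs; reduce)); intro _; exact ?xq9009 : List ℤ)

/-- the values at the type 9 -/
noncomputable def cT9 : List ℤ :=
  (by
  refine (?fq9010 : ((pk61l (fun i1 => (pk61z (pk61d (nat_lit 11) 
    (nat_lit 0xdf000d8275800a7f17c00000a80000ef88b000a815e00e0004fc9fc00652e00001792f2001ff8008f40025223045e348003ff1000000024c68e0d925a7653e8be0000063adfda39a30fc5400001d4ec118400001500006a000000ce59541a1de1fc1c0df1a468c68950000000401503d4040550d2132304310360a80a800802) i1))) (nat_lit 0) (nat_lit 94) List.nil) : List ℤ)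
    = ?xq9010 → (List ℤ)) ?hq9010; (case hq9010 => (set_option maxRecDepth 1000000 in conv => lhs; reduce)); intro _; exact ?xq9010 : List ℤ)

/-- the values at the type 10 -/
noncomputable def cT10 : List ℤ :=
  (by
  refine (?fq9011 : ((pk61l (fun i1 => (pk61z (pk61d (nat_lit 12) 
    (nat_lit 0xeff2e000035fa8ba00cc01e0000500740a004600144ff2a01cc19e0005403c00001e67800004d94d90000009ff785000d1404f04f5824ff000300100000a43258b992c418611f14f0004ff49d78089826c02e18f000d02b361362ffa000570002c44ff0005d605a0aab90700b384204e21cc10e45060010070000f32a69004517224615e1a213606408a03e002) i1))) (nat_lit 0) (nat_lit 94) List.nil) : List ℤ)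
    = ?xq9011 → (List ℤ)) ?hq9011; (case hq9011 => (set_option maxRecDepth 1000000 in conv => lhs; reduce)); intro _; exact ?xq9011 : List ℤ)

/-- the values at the type 11 -/
noncomputable def cT11 : List ℤ :=
  (by
  refine (?fq9012 : ((pk61l (fun i1 => (pk61z (pk61d (nat_lit 10) 
    (nat_lit 0x8c0006c00000150002fc0014c0000000002220008b17d0b0006f51037000360d9976bca702d605e4000000000150004535dc72001b0344a734854040000a58700000231073c0ef000002280034a20344383bcfb000003c17a6c93400037000445101b3480c18150000f04287029848040360a802) i1))) (nat_lit 0) (nat_lit 94) List.nil) : List ℤ)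
    = ?xq9012 → (List ℤ)) ?hq9012; (case hq9012 => (set_option maxRecDepth 1000000 in conv => lhs; reduce)); intro _; exact ?xq9012 : List ℤ)

/-- the values at the type 12 -/
noncomputable def cT12 : List ℤ :=
  (by
  refine (?fq9013 : ((pk61l (fun i1 => (pk61z (pk61d (nat_lit 8) 
    (nat_lit 0x6f600000002fd7531fa43b601420846b2366600c382f005f000000502f23001000390154382f53044f006c00114e40302f436b5f4250361e07001c002817060f1814001d2f2e02341229400c6d3f341f3f10200b1a062b28040e0a070002) i1))) (nat_lit 0) (nat_lit 94) List.nil) : List ℤ)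
    = ?xq9013 → (List ℤ)) ?hq9013; (case hq9013 => (set_option maxRecDepth 1000000 in conv => lhs; reduce)); intro _; exact ?xq9013 : List ℤ)

/-- the values at the type 13 -/
noncomputable def cT13 : List ℤ :=
  (by
  refine (?fq9014 : ((pk61l (fun i1 => (pk61z (pk61d (nat_lit 7) 
    (nat_lit 0x83000000308ef0014d7805af4690611008c400011df80004000c00000363c91380482c8000602cb61ebc02c481ed175218c0046004075200c0360aa4092490e91108c51028603a81e3150626405893420002) i1))) (nat_lit 0) (nat_lit 94) List.nil) : List ℤ)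
    = ?xq9014 → (List ℤ)) ?hq9014; (case hq9014 => (set_option maxRecDepth 1000000 in conv => lhs; reduce)); intro _; exact ?xq9014 : List ℤ)

/-- the values at the type 14 -/
noncomputable def cT14 : List ℤ :=
  (by
  refine (?fq9015 : ((pk61l (fun i1 => (pk61z (pk61d (nat_lit 8) 
    (nat_lit 0x40000000002fd753007b9b005400546b2411006c570000482000004000240000004e666b270024234000330036590f17002c6b280577111e17003b00270729002f0360054721423c4211380b25375c004010088405364c283c2602201802) i1))) (nat_lit 0) (nat_lit 94) List.nil) : List ℤ)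
    = ?xq9015 → (List ℤ)) ?hq9015; (case hq9015 => (set_option maxRecDepth 1000000 in conv => lhs; reduce)); intro _; exact ?xq9015 : List ℤ)

/-- the values at the type 15 -/
noncomputable def cT15 : List ℤ :=
  (by
  refine (?fq9016 : ((pk61l (fun i1 => (pk61z (pk61d (nat_lit 8) 
    (nat_lit 0x282f000000004818000f305f473018489b1100002700006b8000001f00600000001705366f00485f1f3651005a6c8035000859347223063600361847574f05001820002323200b171200560516130f30072e440023422b1906030e140502) i1))) (nat_lit 0) (nat_lit 94) List.nil) : List ℤ)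
    = ?xq9016 → (List ℤ)) ?hq9016; (case hq9016 => (set_option maxRecDepth 1000000 in conv => lhs; reduce)); intro _; exact ?xq9016 : List ℤ)

/-- the values at the type 16 -/
noncomputable def cT16 : List ℤ :=
  (by
  refine (?fq9017 : ((pk61l (fun i1 => (pk61z (pk61d (nat_lit 10) 
    (nat_lit 0xb8054001430005f5a114002dfe9ddf2105347cb301532001674a00000090801442847f00030ca400289f74b1c175c0011e581ff2a740a21f9b0f6ccc0039f2cd6f000d2420e3600001f57a45cdfa5000736f7c01c84839e2416745047802510f4104bd3801cdc15c17498f016c370a82d1882c04402) i1))) (nat_lit 0) (nat_lit 94) List.nil) : List ℤ)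
    = ?xq9017 → (List ℤ)) ?hq9017; (case hq9017 => (set_option maxRecDepth 1000000 in conv => lhs; reduce)); intro _; exact ?xq9017 : List ℤ)

/-- the values at the type 17 -/
noncomputable def cT17 : List ℤ :=
  (by
  refine (?fq9018 : ((pk61l (fun i1 => (pk61z (pk61d (nat_lit 12) 
    (nat_lit 0x6501380000003cb4e043826fa0011010806005704b3472f318c3242ff35317c18000007800000000020018008f46d4ff00032d10c23a1101805cf13f1ff46d1790000b304e1db4d41808982f307810141d28848c5e046e2d74012b029f28e5001262300000f502f13c35d0a00c505f18400c0d914d25001f03f15404b0410501ec2260ca07002700a02e036002) i1))) (nat_lit 0) (nat_lit 94) List.nil) : List ℤ)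
    = ?xq9018 → (List ℤ)) ?hq9018; (case hq9018 => (set_option maxRecDepth 1000000 in conv => lhs; reduce)); intro _; exact ?xq9018 : List ℤ)

/-- the values at the type 18 -/
noncomputable def cT18 : List ℤ :=
  (by
  refine (?fq9019 : ((pk61l (fun i1 => (pk61z (pk61d (nat_lit 9) 
    (nat_lit 0x1f0600000000606c4e2012fa82fcae205435cd6b9c04dd3ebf000ec0000000fd7e90001fc0027a11c500bf5f9c080a11b000b514201357e28870ec9aab74cf9bea1b0243203056a00ee0f0033016d00a281445f0ca288d040807ca0496a2a0e82a15858bc44170702402) i1))) (nat_lit 0) (nat_lit 94) List.nil) : List ℤ)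
    = ?xq9019 → (List ℤ)) ?hq9019; (case hq9019 => (set_option maxRecDepth 1000000 in conv => lhs; reduce)); intro _; exact ?xq9019 : List ℤ)

/-- the values at the type 19 -/
noncomputable def cT19 : List ℤ :=
  (by
  refine (?fq9020 : ((pk61l (fun i1 => (pk61z (pk61d (nat_lit 11) 
    (nat_lit 0x1d7b18000001e5aa01b11400036f5d04809b8b414e50c119d4000870a980000059c7f8000007fc002d0144000000721380d458000120900ff8a204c000362e12683900009828619c80a220906f02f8a15ce438378df15c000db06f3004952005c2c41800291f0285706b06d01e480200c42081046002314c1541783809403803002) i1))) (nat_lit 0) (nat_lit 94) List.nil) : List ℤ)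
    = ?xq9020 → (List ℤ)) ?hq9020; (case hq9020 => (set_option maxRecDepth 1000000 in conv => lhs; reduce)); intro _; exact ?xq9020 : List ℤ)

/-- the values at the type 20 -/
noncomputable def cT20 : List ℤ :=
  (by
  refine (?fq9021 : ((pk61l (fun i1 => (pk61z (pk61d (nat_lit 12) 
    (nat_lit 0x1180000000000001df43834700036f6900003480003485e84eb2760005e72300000000fb9ff0000007000003f00000000003470d276145f0003f03ef7005b14a600017a0fb1bf4c200011776147b0d21a42761ce29f5b168f00045faf031d0000a806f2ff24c38423078b69031d5a04a602a04632b36f0007000463d434703b17a08b1360d113406e08c01d002) i1))) (nat_lit 0) (nat_lit 94) List.nil) : List ℤ)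
    = ?xq9021 → (List ℤ)) ?hq9021; (case hq9021 => (set_option maxRecDepth 1000000 in conv => lhs; reduce)); intro _; exact ?xq9021 : List ℤ)

/-- the values at the type 21 -/
noncomputable def cT21 : List ℤ :=
  (by
  refine (?fq9022 : ((pk61l (fun i1 => (pk61z (pk61d (nat_lit 13) 
    (nat_lit 0x8bed740002d8c00185f8dbd550fff5e0443877d10808c68fa3722748b23000b9eb6e2ff00024c0000b642d889fc5febd01949000b64e3715e16f8f4e2ff6b395dc50032a00016c90bc14f4fa068c5fe46046e24c0d1e38d0fc0d4c5000000ae89d5010d202ca0ffdf4403800002a0efe38e1b7879c9d67385780884a6417011789a10f046c19c065c0120f00ed85200aa15202902b0022002) i1))) (nat_lit 0) (nat_lit 94) List.nil) : List ℤ)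
    = ?xq9022 → (List ℤ)) ?hq9022; (case hq9022 => (set_option maxRecDepth 1000000 in conv => lhs; reduce)); intro _; exact ?xq9022 : List ℤ)

/-- the values at the type 22 -/
noncomputable def cT22 : List ℤ :=
  (by
  refine (?fq9023 : ((pk61l (fun i1 => (pk61z (pk61d (nat_lit 6) 
    (nat_lit 0x7cb02302300b0385cc90c6001800008000003d191f01800048c3000c000c7c02520003c00080101911a40002d13dc14074300000e2d748054c5903cc1c738048c2871830c2142) i1))) (nat_lit 0) (nat_lit 94) List.nil) : List ℤ)
    = ?xq9023 → (List ℤ)) ?hq9023; (case hq9023 => (set_option maxRecDepth 1000000 in conv => lhs; reduce)); intro _; exact ?xq9023 : List ℤ)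

/-- the values at the type 23 -/
noncomputable def cT23 : List ℤ :=
  (by
  refine (?fq9024 : ((pk61l (fun i1 => (pk61z (pk61d (nat_lit 7) 
    (nat_lit 0xc0280000c00009de00000000036a631d220001c3871500546e28000000455200d8c009800000001000000000006cd92000148000ce3003e00f005514000000001c400231c391849b0028e2a1870502) i1))) (nat_lit 0) (nat_lit 94) List.nil) : List ℤ)
    = ?xq9024 → (List ℤ)) ?hq9024; (case hq9024 => (set_option maxRecDepth 1000000 in conv => lhs; reduce)); intro _; exact ?xq9024 : List ℤ)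

/-- the values at the type 24 -/
noncomputable def cT24 : List ℤ :=
  (by
  refine (?fq9025 : ((pk61l (fun i1 => (pk61z (pk61d (nat_lit 7) 
    (nat_lit 0x6002b3800c1b0120b800000000000000f2200700000000000000000000000000000100600000000800000000000000040000000005c0000600580000000e00000000800000000090000280000200182) i1))) (nat_lit 0) (nat_lit 94) List.nil) : List ℤ)
    = ?xq9025 → (List ℤ)) ?hq9025; (case hq9025 => (set_option maxRecDepth 1000000 in conv => lhs; reduce)); intro _; exact ?xq9025 : List ℤ)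

/-- the values at the type 25 -/
noncomputable def cT25 : List ℤ :=
  (by
  refine (?fq9026 : ((pk61l (fun i1 => (pk61z (pk61d (nat_lit 5) 
    (nat_lit 0x800000000004001660000088006300005018f02800000043c46e00000900f4300024b800380600044d781002adcf000002c052b3a461a9c2) i1))) (nat_lit 0) (nat_lit 94) List.nil) : List ℤ)
    = ?xq9026 → (List ℤ)) ?hq9026; (case hq9026 => (set_option maxRecDepth 1000000 in conv => lhs; reduce)); intro _; exact ?xq9026 : List ℤ)

/-- the values at the type 26 -/
noncomputable def cT26 : List ℤ :=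
  (by
  refine (?fq9027 : ((pk61l (fun i1 => (pk61z (pk61d (nat_lit 6) 
    (nat_lit 0x2001f90001f0000007c40005060000004400092400001404c000500000000b1c13110000004802142400121810001c04c00114820001c028b04000000068009225108630a042) i1))) (nat_lit 0) (nat_lit 94) List.nil) : List ℤ)
    = ?xq9027 → (List ℤ)) ?hq9027; (case hq9027 => (set_option maxRecDepth 1000000 in conv => lhs; reduce)); intro _; exact ?xq9027 : List ℤ)

/-- the values at the type 27 -/
noncomputable def cT27 : List ℤ :=
  (by
  refine (?fq9028 : ((pk61l (fun i1 => (pk61z (pk61d (nat_lit 5) 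
    (nat_lit 0x160000000000b001810000030006300002816078800000034188603c00680ec0c0023180038160018a5000e010dc000010280a23044621422) i1))) (nat_lit 0) (nat_lit 94) List.nil) : List ℤ)
    = ?xq9028 → (List ℤ)) ?hq9028; (case hq9028 => (set_option maxRecDepth 1000000 in conv => lhs; reduce)); intro _; exact ?xq9028 : List ℤ)

/-- the values at the type 28 -/
noncomputable def cT28 : List ℤ :=
  (by
  refine (?fq9029 : ((pk61l (fun i1 => (pk61z (pk61d (nat_lit 7) 
    (nat_lit 0x6006e00000011dc0c0000c1000000000e021000000980001558800b001f50007a400115004200000208c3860009a9c00014801c9c8136c2d214349000b887918002104075aa1086340418020606071418482) i1))) (nat_lit 0) (nat_lit 94) List.nil) : List ℤ)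
    = ?xq9029 → (List ℤ)) ?hq9029; (case hq9029 => (set_option maxRecDepth 1000000 in conv => lhs; reduce)); intro _; exact ?xq9029 : List ℤ)

/-- the values at the type 29 -/
noncomputable def cT29 : List ℤ :=
  (by
  refine (?fq9030 : ((pk61l (fun i1 => (pk61z (pk61d (nat_lit 5) 
    (nat_lit 0x180800000010c0016700000380a0000e0014e800c0498040010c040000080eb02004001801bc2702c02400061b0000c12a4904b1c0600998a21902) i1))) (nat_lit 0) (nat_lit 94) List.nil) : List ℤ)
    = ?xq9030 → (List ℤ)) ?hq9030; (case hq9030 => (set_option maxRecDepth 1000000 in conv => lhs; reduce)); intro _; exact ?xq9030 : List ℤ)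

/-- the values at the type 30 -/
noncomputable def cT30 : List ℤ :=
  (by
  refine (?fq9031 : ((pk61l (fun i1 => (pk61z (pk61d (nat_lit 9) 
    (nat_lit 0x210fccf800006b00481009c361ac78c41b000fa00278002e0000000b00000030807500140011218802a68f00664a600520000000ab8909eba001708ef43e8d460003d620b0c4750bd1f7c3a314001d070a4240048e89e67316cd842840d8411836008182e0a2002c1002) i1))) (nat_lit 0) (nat_lit 94) List.nil) : List ℤ)
    = ?xq9031 → (List ℤ)) ?hq9031; (case hq9031 => (set_option maxRecDepth 1000000 in conv => lhs; reduce)); intro _; exact ?xq9031 : List ℤ)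

/-- the values at the type 31 -/
noncomputable def cT31 : List ℤ :=
  (by
  refine (?fq9032 : ((pk61l (fun i1 => (pk61z (pk61d (nat_lit 8) 
    (nat_lit 0xefb47f00006c00009f836b6c0b136c00590040a20500000010000017401b0050007931a15c00a143a800380000a237d7400b00c8590a596b17005d816d5b5af0005c3f36a2a8937159a213a63fd0e043212a0949446c582a30192e181a02) i1))) (nat_lit 0) (nat_lit 94) List.nil) : List ℤ)
    = ?xq9032 → (List ℤ)) ?hq9032; (case hq9032 => (set_option maxRecDepth 1000000 in conv => lhs; reduce)); intro _; exact ?xq9032 : List ℤ)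

/-- the values at the type 32 -/
noncomputable def cT32 : List ℤ :=
  (by
  refine (?fq9033 : ((pk61l (fun i1 => (pk61z (pk61d (nat_lit 9) 
    (nat_lit 0xf06b500000000002cd907800001e013000021aa1322892aa2002854000000ec1463002f0008218801905a50b71c6004f8000000639647a3c00098006435800f000138c88ca00002cb457281680077138798aa25007cc6073190e443c551b464001293852640e0f01202) i1))) (nat_lit 0) (nat_lit 94) List.nil) : List ℤ)
    = ?xq9033 → (List ℤ)) ?hq9033; (case hq9033 => (set_option maxRecDepth 1000000 in conv => lhs; reduce)); intro _; exact ?xq9033 : List ℤ)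

/-- the values at the type 33 -/
noncomputable def cT33 : List ℤ :=
  (by
  refine (?fq9034 : ((pk61l (fun i1 => (pk61z (pk61d (nat_lit 8) 
    (nat_lit 0x3b47e800006b002314a76c6b3c13360024005200170000007f00000c4075001b00313a000f120055530038000000137d5218000f5a1c2435300027275813482f12387423001d0e2912001028502e2d0d211d1a1015360106170a0a0b0802) i1))) (nat_lit 0) (nat_lit 94) List.nil) : List ℤ)
    = ?xq9034 → (List ℤ)) ?hq9034; (case hq9034 => (set_option maxRecDepth 1000000 in conv => lhs; reduce)); intro _; exact ?xq9034 : List ℤ)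

/-- the values at the type 34 -/
noncomputable def cT34 : List ℤ :=
  (by
  refine (?fq9035 : ((pk61l (fun i1 => (pk61z (pk61d (nat_lit 5) 
    (nat_lit 0xc0300058000600000080b0100059c0632007580c00000008d020002711000320006220f000a010027790008144b020045ac4c00010280c7018a2) i1))) (nat_lit 0) (nat_lit 94) List.nil) : List ℤ)
    = ?xq9035 → (List ℤ)) ?hq9035; (case hq9035 => (set_option maxRecDepth 1000000 in conv => lhs; reduce)); intro _; exact ?xq9035 : List ℤ)

/-- the values at the type 35 -/
noncomputable def cT35 : List ℤ :=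
  (by
  refine (?fq9036 : ((pk61l (fun i1 => (pk61z (pk61d (nat_lit 5) 
    (nat_lit 0x1307000203e0180000341478c0863c0e75d075c2c0000080af0501d27531000bc009c0000024053d2801000054a401c0460d438200069cd043842) i1))) (nat_lit 0) (nat_lit 94) List.nil) : List ℤ)
    = ?xq9036 → (List ℤ)) ?hq9036; (case hq9036 => (set_option maxRecDepth 1000000 in conv => lhs; reduce)); intro _; exact ?xq9036 : List ℤ)

/-- the values at the type 36 -/
noncomputable def cT36 : List ℤ :=
  (by
  refine (?fq9037 : ((pk61l (fun i1 => (pk61z (pk61d (nat_lit 3) 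
    (nat_lit 0x20000000600806005a30a0018140018000a60002d000401000002600048000032132) i1))) (nat_lit 0) (nat_lit 94) List.nil) : List ℤ)
    = ?xq9037 → (List ℤ)) ?hq9037; (case hq9037 => (set_option maxRecDepth 1000000 in conv => lhs; reduce)); intro _; exact ?xq9037 : List ℤ)

/-- the values at the type 37 -/
noncomputable def cT37 : List ℤ :=
  (by
  refine (?fq9038 : ((pk61l (fun i1 => (pk61z (pk61d (nat_lit 6) 
    (nat_lit 0x70009006200005c060400b4c30041100200000003c01400024c500f3c00051802d131340031f18500c0060013c018038000200b15008730c1850003cc10120c24d200146042) i1))) (nat_lit 0) (nat_lit 94) List.nil) : List ℤ)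
    = ?xq9038 → (List ℤ)) ?hq9038; (case hq9038 => (set_option maxRecDepth 1000000 in conv => lhs; reduce)); intro _; exact ?xq9038 : List ℤ)

/-- the values at the type 38 -/
noncomputable def cT38 : List ℤ :=
  (by
  refine (?fq9039 : ((pk61l (fun i1 => (pk61z (pk61d (nat_lit 4) 
    (nat_lit 0x7000008304404034020400030000000002230000004022030443132100000010300136205540130000342100021442) i1))) (nat_lit 0) (nat_lit 94) List.nil) : List ℤ)
    = ?xq9039 → (List ℤ)) ?hq9039; (case hq9039 => (set_option maxRecDepth 1000000 in conv => lhs; reduce)); intro _; exact ?xq9039 : List ℤ)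

/-- the values at the type 39 -/
noncomputable def cT39 : List ℤ :=
  (by
  refine (?fq9040 : ((pk61l (fun i1 => (pk61z (pk61d (nat_lit 5) 
    (nat_lit 0xe00000042010800e041d8901c0000c0000000000081240000006080430080708d4348406000005010001060180a0094230000619c6a618c309142) i1))) (nat_lit 0) (nat_lit 94) List.nil) : List ℤ)
    = ?xq9040 → (List ℤ)) ?hq9040; (case hq9040 => (set_option maxRecDepth 1000000 in conv => lhs; reduce)); intro _; exact ?xq9040 : List ℤ)

/-- the values at the type 40 -/
noncomputable def cT40 : List ℤ :=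
  (by
  refine (?fq9041 : ((pk61l (fun i1 => (pk61z (pk61d (nat_lit 7) 
    (nat_lit 0x4003001f8e2c03f107c2033e912920060c00000000b0c000206c002a80878f802e4003530148af469001f480140220500006434c1f280029f00617a61e1d59810595006040394005d090482050d1430702) i1))) (nat_lit 0) (nat_lit 94) List.nil) : List ℤ)
    = ?xq9041 → (List ℤ)) ?hq9041; (case hq9041 => (set_option maxRecDepth 1000000 in conv => lhs; reduce)); intro _; exact ?xq9041 : List ℤ)

/-- the values at the type 41 -/
noncomputable def cT41 : List ℤ :=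
  (by
  refine (?fq9042 : ((pk61l (fun i1 => (pk61z (pk61d (nat_lit 4) 
    (nat_lit 0x700000800000700420447030000800008150830055050017054506505c43060800300b42765600035448631206012) i1))) (nat_lit 0) (nat_lit 94) List.nil) : List ℤ)
    = ?xq9042 → (List ℤ)) ?hq9042; (case hq9042 => (set_option maxRecDepth 1000000 in conv => lhs; reduce)); intro _; exact ?xq9042 : List ℤ)

/-- the values at the type 42 -/
noncomputable def cT42 : List ℤ :=
  (by
  refine (?fq9043 : ((pk61l (fun i1 => (pk61z (pk61d (nat_lit 5) 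
    (nat_lit 0x2170016043c10380eb4116301160020000000028002a080000005b006960c07220224100601800081c00350c100a09ac220000c185043140850422) i1))) (nat_lit 0) (nat_lit 94) List.nil) : List ℤ)
    = ?xq9043 → (List ℤ)) ?hq9043; (case hq9043 => (set_option maxRecDepth 1000000 in conv => lhs; reduce)); intro _; exact ?xq9043 : List ℤ)

/-- the values at the type 43 -/
noncomputable def cT43 : List ℤ :=
  (by
  refine (?fq9044 : ((pk61l (fun i1 => (pk61z (pk61d (nat_lit 6) 
    (nat_lit 0x5d000001f60c01451f10f10b1d200b00000c00000000800000a28c4000070002c075d00b0042cc04328900021001f8402d001e30e0872aa50744b5c71c82cc0810081cd58c0c2) i1))) (nat_lit 0) (nat_lit 94) List.nil) : List ℤ)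
    = ?xq9044 → (List ℤ)) ?hq9044; (case hq9044 => (set_option maxRecDepth 1000000 in conv => lhs; reduce)); intro _; exact ?xq9044 : List ℤ)

/-- the values at the type 44 -/
noncomputable def cT44 : List ℤ :=
  (by
  refine (?fq9045 : ((pk61l (fun i1 => (pk61z (pk61d (nat_lit 6) 
    (nat_lit 0x5d000001f61700f3dfa0f1d87110005c000c00000000f00000729140061001118076402a00718c2946660112075df08061000b2cf0c728038a44b0101ce30050d30904404c082) i1))) (nat_lit 0) (nat_lit 94) List.nil) : List ℤ)
    = ?xq9045 → (List ℤ)) ?hq9045; (case hq9045 => (set_option maxRecDepth 1000000 in conv => lhs; reduce)); intro _; exact ?xq9045 : List ℤ)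

/-- the values at the type 45 -/
noncomputable def cT45 : List ℤ :=
  (by
  refine (?fq9046 : ((pk61l (fun i1 => (pk61z (pk61d (nat_lit 9) 
    (nat_lit 0x1805b001b0001f0c32c00802b87c085c0f82d3412000608e000017c006b1b000003f1b0006a971587820002410000353b8d49c2f3602c001f0597cb05d2006c000016d088e1f0a0005410001e060560781c56181c418b460181000e1b1785cdc1012020140d1d0301c02) i1))) (nat_lit 0) (nat_lit 94) List.nil) : List ℤ)
    = ?xq9046 → (List ℤ)) ?hq9046; (case hq9046 => (set_option maxRecDepth 1000000 in conv => lhs; reduce)); intro _; exact ?xq9046 : List ℤ)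

/-- the values at the type 46 -/
noncomputable def cT46 : List ℤ :=
  (by
  refine (?fq9047 : ((pk61l (fun i1 => (pk61z (pk61d (nat_lit 6) 
    (nat_lit 0x2b0230005d4000600ed300c2ad028a1f0200244408001804a74de0202000050124402d37c031f01d5cc00074a2002c008000801e00750701e76f00020ca0724050755248c042) i1))) (nat_lit 0) (nat_lit 94) List.nil) : List ℤ)
    = ?xq9047 → (List ℤ)) ?hq9047; (case hq9047 => (set_option maxRecDepth 1000000 in conv => lhs; reduce)); intro _; exact ?xq9047 : List ℤ)

/-- the values at the type 47 -/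
noncomputable def cT47 : List ℤ :=
  (by
  refine (?fq9048 : ((pk61l (fun i1 => (pk61z (pk61d (nat_lit 7) 
    (nat_lit 0x1858000359f30c000fae7d4146f4ce240031e00005c000000006f240005238a8800607c0120c01e1e482c037785d8ad0e0c01110c579f420031000d402c5b005303671b1d5e7e014490479c0c68fa81478482) i1))) (nat_lit 0) (nat_lit 94) List.nil) : List ℤ)
    = ?xq9048 → (List ℤ)) ?hq9048; (case hq9048 => (set_option maxRecDepth 1000000 in conv => lhs; reduce)); intro _; exact ?xq9048 : List ℤ)

/-- the values at the type 48 -/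
noncomputable def cT48 : List ℤ :=
  (by
  refine (?fq9049 : ((pk61l (fun i1 => (pk61z (pk61d (nat_lit 4) 
    (nat_lit 0x40c040b088443701000000006b008005440400400650000070019130031042054000937a024600478602458144522) i1))) (nat_lit 0) (nat_lit 94) List.nil) : List ℤ)
    = ?xq9049 → (List ℤ)) ?hq9049; (case hq9049 => (set_option maxRecDepth 1000000 in conv => lhs; reduce)); intro _; exact ?xq9049 : List ℤ)

/-- the values at the type 49 -/
noncomputable def cT49 : List ℤ :=
  (by
  refine (?fq9050 : ((pk61l (fun i1 => (pk61z (pk61d (nat_lit 4) 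
    (nat_lit 0x4073000830444480000000000778700120000800000200000100000080000102000001071000800000020700182802) i1))) (nat_lit 0) (nat_lit 94) List.nil) : List ℤ)
    = ?xq9050 → (List ℤ)) ?hq9050; (case hq9050 => (set_option maxRecDepth 1000000 in conv => lhs; reduce)); intro _; exact ?xq9050 : List ℤ)

/-- the values at the type 50 -/
noncomputable def cT50 : List ℤ :=
  (by
  refine (?fq9051 : ((pk61l (fun i1 => (pk61z (pk61d (nat_lit 4) 
    (nat_lit 0x3070080083000003112600444202320000210340900002000000335001004100010220000040014411305424422) i1))) (nat_lit 0) (nat_lit 94) List.nil) : List ℤ)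
    = ?xq9051 → (List ℤ)) ?hq9051; (case hq9051 => (set_option maxRecDepth 1000000 in conv => lhs; reduce)); intro _; exact ?xq9051 : List ℤ)

/-- the values at the type 51 -/
noncomputable def cT51 : List ℤ :=
  (by
  refine (?fq9052 : ((pk61l (fun i1 => (pk61z (pk61d (nat_lit 3) 
    (nat_lit 0x3603000000000c10000000000001000000000004000000620001000600010080222) i1))) (nat_lit 0) (nat_lit 94) List.nil) : List ℤ)
    = ?xq9052 → (List ℤ)) ?hq9052; (case hq9052 => (set_option maxRecDepth 1000000 in conv => lhs; reduce)); intro _; exact ?xq9052 : List ℤ)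

/-- the values at the type 52 -/
noncomputable def cT52 : List ℤ :=
  (by
  refine (?fq9053 : ((pk61l (fun i1 => (pk61z (pk61d (nat_lit 4) 
    (nat_lit 0x800000000000006070203010005050400000015260065564001008656000054626600502301020350000534464002) i1))) (nat_lit 0) (nat_lit 94) List.nil) : List ℤ)
    = ?xq9053 → (List ℤ)) ?hq9053; (case hq9053 => (set_option maxRecDepth 1000000 in conv => lhs; reduce)); intro _; exact ?xq9053 : List ℤ)

/-- the values at the type 53 -/
noncomputable def cT53 : List ℤ :=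
  (by
  refine (?fq9054 : ((pk61l (fun i1 => (pk61z (pk61d (nat_lit 6) 
    (nat_lit 0x140240002c05c03000000060132d401502202348048c5d344000001d0403d801174c78028018a00050600000018078475401e0000123c901300901479d31d0000d635e292142) i1))) (nat_lit 0) (nat_lit 94) List.nil) : List ℤ)
    = ?xq9054 → (List ℤ)) ?hq9054; (case hq9054 => (set_option maxRecDepth 1000000 in conv => lhs; reduce)); intro _; exact ?xq9054 : List ℤ)

/-- the values at the type 54 -/
noncomputable def cT54 : List ℤ :=
  (by
  refine (?fq9055 : ((pk61l (fun i1 => (pk61z (pk61d (nat_lit 4) 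
    (nat_lit 0x30000c0b0b0000604520301000605670000051626006555105400366500c054625000602201030855650634401062) i1))) (nat_lit 0) (nat_lit 94) List.nil) : List ℤ)
    = ?xq9055 → (List ℤ)) ?hq9055; (case hq9055 => (set_option maxRecDepth 1000000 in conv => lhs; reduce)); intro _; exact ?xq9055 : List ℤ)

/-- the values at the type 55 -/
noncomputable def cT55 : List ℤ :=
  (by
  refine (?fq9056 : ((pk61l (fun i1 => (pk61z (pk61d (nat_lit 2) 
    (nat_lit 0xc00030200814080100022008082600025004400865926) i1))) (nat_lit 0) (nat_lit 94) List.nil) : List ℤ)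
    = ?xq9056 → (List ℤ)) ?hq9056; (case hq9056 => (set_option maxRecDepth 1000000 in conv => lhs; reduce)); intro _; exact ?xq9056 : List ℤ)

/-- the values at the type 56 -/
noncomputable def cT56 : List ℤ :=
  (by
  refine (?fq9057 : ((pk61l (fun i1 => (pk61z (pk61d (nat_lit 2) 
    (nat_lit 0xcc0000008262800402000000080000000000000100400a) i1))) (nat_lit 0) (nat_lit 94) List.nil) : List ℤ)
    = ?xq9057 → (List ℤ)) ?hq9057; (case hq9057 => (set_option maxRecDepth 1000000 in conv => lhs; reduce)); intro _; exact ?xq9057 : List ℤ)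

/-- the values at the type 57 -/
noncomputable def cT57 : List ℤ :=
  (by
  refine (?fq9058 : ((pk61l (fun i1 => (pk61z (pk61d (nat_lit 4) 
    (nat_lit 0x4000000003000000000020003001000000003000102000800201500060603450036003050020742011250044032262) i1))) (nat_lit 0) (nat_lit 94) List.nil) : List ℤ)
    = ?xq9058 → (List ℤ)) ?hq9058; (case hq9058 => (set_option maxRecDepth 1000000 in conv => lhs; reduce)); intro _; exact ?xq9058 : List ℤ)

/-- the values at the type 58 -/
noncomputable def cT58 : List ℤ :=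
  (by
  refine (?fq9059 : ((pk61l (fun i1 => (pk61z (pk61d (nat_lit 5) 
    (nat_lit 0xec0000b0000362d8b300a000100001000100500005880600188018000430020100b29400281042800361402318a04948411824181860840240c02) i1))) (nat_lit 0) (nat_lit 94) List.nil) : List ℤ)
    = ?xq9059 → (List ℤ)) ?hq9059; (case hq9059 => (set_option maxRecDepth 1000000 in conv => lhs; reduce)); intro _; exact ?xq9059 : List ℤ)

/-- the values at the type 59 -/
noncomputable def cT59 : List ℤ :=
  (by
  refine (?fq9060 : ((pk61l (fun i1 => (pk61z (pk61d (nat_lit 4) 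
    (nat_lit 0x3000000073003800000020000002000403402004100000100400030040401003020001340010121424303011424102) i1))) (nat_lit 0) (nat_lit 94) List.nil) : List ℤ)
    = ?xq9060 → (List ℤ)) ?hq9060; (case hq9060 => (set_option maxRecDepth 1000000 in conv => lhs; reduce)); intro _; exact ?xq9060 : List ℤ)

/-- the values at the type 60 -/
noncomputable def cT60 : List ℤ :=
  (by
  refine (?fq9061 : ((pk61l (fun i1 => (pk61z (pk61d (nat_lit 5) 
    (nat_lit 0x20b0000c000035b16c600c004aa0001e001c0b000068c4608b0e0400124601401cc532ee0944442800301a48644d219a1f7b02a4996c3a809720a2) i1))) (nat_lit 0) (nat_lit 94) List.nil) : List ℤ)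
    = ?xq9061 → (List ℤ)) ?hq9061; (case hq9061 => (set_option maxRecDepth 1000000 in conv => lhs; reduce)); intro _; exact ?xq9061 : List ℤ)

/-- the values at the type 61 -/
noncomputable def cT61 : List ℤ :=
  (by
  refine (?fq9062 : ((pk61l (fun i1 => (pk61z (pk61d (nat_lit 5) 
    (nat_lit 0x10b00000030e8001e3000a6614450180000cab01002081053108000000398a401803600e03942000ca801407404a580088210441144050423210c2) i1))) (nat_lit 0) (nat_lit 94) List.nil) : List ℤ)
    = ?xq9062 → (List ℤ)) ?hq9062; (case hq9062 => (set_option maxRecDepth 1000000 in conv => lhs; reduce)); intro _; exact ?xq9062 : List ℤ)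

/-- the values at the type 62 -/
noncomputable def cT62 : List ℤ :=
  (by
  refine (?fq9063 : ((pk61l (fun i1 => (pk61z (pk61d (nat_lit 5) 
    (nat_lit 0x1eb0000c002035b283600c0014400000003c0c01c0909860312000000538004000c232ce05194b2a003044a7184c5218e8391ca4c46c3a8ee0c0a2) i1))) (nat_lit 0) (nat_lit 94) List.nil) : List ℤ)
    = ?xq9063 → (List ℤ)) ?hq9063; (case hq9063 => (set_option maxRecDepth 1000000 in conv => lhs; reduce)); intro _; exact ?xq9063 : List ℤ)

/-- the values at the type 63 -/
noncomputable def cT63 : List ℤ :=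
  (by
  refine (?fq9064 : ((pk61l (fun i1 => (pk61z (pk61d (nat_lit 3) 
    (nat_lit 0x2000000300000001001804000001000860040310000001400200200040940c600242682) i1))) (nat_lit 0) (nat_lit 94) List.nil) : List ℤ)
    = ?xq9064 → (List ℤ)) ?hq9064; (case hq9064 => (set_option maxRecDepth 1000000 in conv => lhs; reduce)); intro _; exact ?xq9064 : List ℤ)

/-- the values at the type 64 -/
noncomputable def cT64 : List ℤ :=
  (by
  refine (?fq9065 : ((pk61l (fun i1 => (pk61z (pk61d (nat_lit 3) 
    (nat_lit 0x31006008000840040c24186080032011102205006c00082101000b300300b0c0ccc88a) i1))) (nat_lit 0) (nat_lit 94) List.nil) : List ℤ)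
    = ?xq9065 → (List ℤ)) ?hq9065; (case hq9065 => (set_option maxRecDepth 1000000 in conv => lhs; reduce)); intro _; exact ?xq9065 : List ℤ)

/-- the values at the type 65 -/
noncomputable def cT65 : List ℤ :=
  (by
  refine (?fq9066 : ((pk61l (fun i1 => (pk61z (pk61d (nat_lit 3) 
    (nat_lit 0x30c08006000841006012008080002c20085002006000104081000930046d4000408052) i1))) (nat_lit 0) (nat_lit 94) List.nil) : List ℤ)
    = ?xq9066 → (List ℤ)) ?hq9066; (case hq9066 => (set_option maxRecDepth 1000000 in conv => lhs; reduce)); intro _; exact ?xq9066 : List ℤ)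

/-- the values at the type 66 -/
noncomputable def cT66 : List ℤ :=
  (by
  refine (?fq9067 : ((pk61l (fun i1 => (pk61z (pk61d (nat_lit 4) 
    (nat_lit 0x30400c003c000003615000414505220000260360200002000000230006009107060520000048011113201156442) i1))) (nat_lit 0) (nat_lit 94) List.nil) : List ℤ)
    = ?xq9067 → (List ℤ)) ?hq9067; (case hq9067 => (set_option maxRecDepth 1000000 in conv => lhs; reduce)); intro _; exact ?xq9067 : List ℤ)

/-- the values at the type 67 -/
noncomputable def cT67 : List ℤ :=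
  (by
  refine (?fq9068 : ((pk61l (fun i1 => (pk61z (pk61d (nat_lit 3) 
    (nat_lit 0xc40000c00004080018400d00020100800100000d00000c820008000140c85312004a) i1))) (nat_lit 0) (nat_lit 94) List.nil) : List ℤ)
    = ?xq9068 → (List ℤ)) ?hq9068; (case hq9068 => (set_option maxRecDepth 1000000 in conv => lhs; reduce)); intro _; exact ?xq9068 : List ℤ)

/-- the values at the type 68 -/
noncomputable def cT68 : List ℤ :=
  (by
  refine (?fq9069 : ((pk61l (fun i1 => (pk61z (pk61d (nat_lit 3) 
    (nat_lit 0x4202000000003010000000000001000020000001000000400002000200000040212) i1))) (nat_lit 0) (nat_lit 94) List.nil) : List ℤ)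
    = ?xq9069 → (List ℤ)) ?hq9069; (case hq9069 => (set_option maxRecDepth 1000000 in conv => lhs; reduce)); intro _; exact ?xq9069 : List ℤ)

/-- the values at the type 69 -/
noncomputable def cT69 : List ℤ :=
  (by
  refine (?fq9070 : ((pk61l (fun i1 => (pk61z (pk61d (nat_lit 3) 
    (nat_lit 0x2000000060080100240840004140004000a60001200040100000260004800000a10a) i1))) (nat_lit 0) (nat_lit 94) List.nil) : List ℤ)
    = ?xq9070 → (List ℤ)) ?hq9070; (case hq9070 => (set_option maxRecDepth 1000000 in conv => lhs; reduce)); intro _; exact ?xq9070 : List ℤ)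

/-- the values at the type 70 -/
noncomputable def cT70 : List ℤ :=
  (by
  refine (?fq9071 : ((pk61l (fun i1 => (pk61z (pk61d (nat_lit 3) 
    (nat_lit 0x800000001040000200000080008000000000000000000080200000000080001000002) i1))) (nat_lit 0) (nat_lit 94) List.nil) : List ℤ)
    = ?xq9071 → (List ℤ)) ?hq9071; (case hq9071 => (set_option maxRecDepth 1000000 in conv => lhs; reduce)); intro _; exact ?xq9071 : List ℤ)

/-- the values at the type 71 -/
noncomputable def cT71 : List ℤ :=
  (by
  refine (?fq9072 : ((pk61l (fun i1 => (pk61z (pk61d (nat_lit 3) 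
    (nat_lit 0x2000000400000000000020204000121a00000a00268021005c410012000058280452) i1))) (nat_lit 0) (nat_lit 94) List.nil) : List ℤ)
    = ?xq9072 → (List ℤ)) ?hq9072; (case hq9072 => (set_option maxRecDepth 1000000 in conv => lhs; reduce)); intro _; exact ?xq9072 : List ℤ)

/-- the values at the type 72 -/
noncomputable def cT72 : List ℤ :=
  (by
  refine (?fq9073 : ((pk61l (fun i1 => (pk61z (pk61d (nat_lit 4) 
    (nat_lit 0x30400040000440025000000032000601006b00c0541600000003230005100401c0002004045100b00302030256412) i1))) (nat_lit 0) (nat_lit 94) List.nil) : List ℤ)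
    = ?xq9073 → (List ℤ)) ?hq9073; (case hq9073 => (set_option maxRecDepth 1000000 in conv => lhs; reduce)); intro _; exact ?xq9073 : List ℤ)

/-- the values at the type 73 -/
noncomputable def cT73 : List ℤ :=
  (by
  refine (?fq9074 : ((pk61l (fun i1 => (pk61z (pk61d (nat_lit 4) 
    (nat_lit 0x30400040000440025000000032000601006c00b0541600000003230005100401b0002004045100c00302030256412) i1))) (nat_lit 0) (nat_lit 94) List.nil) : List ℤ)
    = ?xq9074 → (List ℤ)) ?hq9074; (case hq9074 => (set_option maxRecDepth 1000000 in conv => lhs; reduce)); intro _; exact ?xq9074 : List ℤ)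

/-- the values at the type 74 -/
noncomputable def cT74 : List ℤ :=
  (by
  refine (?fq9075 : ((pk61l (fun i1 => (pk61z (pk61d (nat_lit 2) 
    (nat_lit 0x100000000a0028420445200400004a801021846) i1))) (nat_lit 0) (nat_lit 94) List.nil) : List ℤ)
    = ?xq9075 → (List ℤ)) ?hq9075; (case hq9075 => (set_option maxRecDepth 1000000 in conv => lhs; reduce)); intro _; exact ?xq9075 : List ℤ)

/-- the values at the type 75 -/
noncomputable def cT75 : List ℤ :=
  (by
  refine (?fq9076 : ((pk61l (fun i1 => (pk61z (pk61d (nat_lit 3) 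
    (nat_lit 0x310010002401000000260000800000024000001240004020800200820800041041004a) i1))) (nat_lit 0) (nat_lit 94) List.nil) : List ℤ)
    = ?xq9076 → (List ℤ)) ?hq9076; (case hq9076 => (set_option maxRecDepth 1000000 in conv => lhs; reduce)); intro _; exact ?xq9076 : List ℤ)

/-- the values at the type 76 -/
noncomputable def cT76 : List ℤ :=
  (by
  refine (?fq9077 : ((pk61l (fun i1 => (pk61z (pk61d (nat_lit 3) 
    (nat_lit 0x181000206dc000000000000050000000080001000000002080001008000000080008402) i1))) (nat_lit 0) (nat_lit 94) List.nil) : List ℤ)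
    = ?xq9077 → (List ℤ)) ?hq9077; (case hq9077 => (set_option maxRecDepth 1000000 in conv => lhs; reduce)); intro _; exact ?xq9077 : List ℤ)

/-- the values at the type 77 -/
noncomputable def cT77 : List ℤ :=
  (by
  refine (?fq9078 : ((pk61l (fun i1 => (pk61z (pk61d (nat_lit 3) 
    (nat_lit 0x80001800700020002000a0c18100406002080c40004cc002400400311450650201812) i1))) (nat_lit 0) (nat_lit 94) List.nil) : List ℤ)
    = ?xq9078 → (List ℤ)) ?hq9078; (case hq9078 => (set_option maxRecDepth 1000000 in conv => lhs; reduce)); intro _; exact ?xq9078 : List ℤ)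

/-- the values at the type 78 -/
noncomputable def cT78 : List ℤ :=
  (by
  refine (?fq9079 : ((pk61l (fun i1 => (pk61z (pk61d (nat_lit 3) 
    (nat_lit 0x80001000400020000800a081210040400208081000489002400400251450450201212) i1))) (nat_lit 0) (nat_lit 94) List.nil) : List ℤ)
    = ?xq9079 → (List ℤ)) ?hq9079; (case hq9079 => (set_option maxRecDepth 1000000 in conv => lhs; reduce)); intro _; exact ?xq9079 : List ℤ)

/-- the values at the type 79 -/
noncomputable def cT79 : List ℤ :=
  (by
  refine (?fq9080 : ((pk61l (fun i1 => (pk61z (pk61d (nat_lit 2) 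
    (nat_lit 0x30000c002a800444018010080001080804500008282106) i1))) (nat_lit 0) (nat_lit 94) List.nil) : List ℤ)
    = ?xq9080 → (List ℤ)) ?hq9080; (case hq9080 => (set_option maxRecDepth 1000000 in conv => lhs; reduce)); intro _; exact ?xq9080 : List ℤ)

/-- the values at the type 80 -/
noncomputable def cT80 : List ℤ :=
  (by
  refine (?fq9081 : ((pk61l (fun i1 => (pk61z (pk61d (nat_lit 3) 
    (nat_lit 0x6a0000003000000008000010000008010000000000001000000000000010000000042) i1))) (nat_lit 0) (nat_lit 94) List.nil) : List ℤ)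
    = ?xq9081 → (List ℤ)) ?hq9081; (case hq9081 => (set_option maxRecDepth 1000000 in conv => lhs; reduce)); intro _; exact ?xq9081 : List ℤ)

/-- the values at the type 81 -/
noncomputable def cT81 : List ℤ :=
  (by
  refine (?fq9082 : ((pk61l (fun i1 => (pk61z (pk61d (nat_lit 2) 
    (nat_lit 0x2010102100006a05902026008590482108010102) i1))) (nat_lit 0) (nat_lit 94) List.nil) : List ℤ)
    = ?xq9082 → (List ℤ)) ?hq9082; (case hq9082 => (set_option maxRecDepth 1000000 in conv => lhs; reduce)); intro _; exact ?xq9082 : List ℤ)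

/-- the values at the type 82 -/
noncomputable def cT82 : List ℤ :=
  (by
  refine (?fq9083 : ((pk61l (fun i1 => (pk61z (pk61d (nat_lit 3) 
    (nat_lit 0x41008386000436c20834141080022000542102808400302d30400811010ca880869492) i1))) (nat_lit 0) (nat_lit 94) List.nil) : List ℤ)
    = ?xq9083 → (List ℤ)) ?hq9083; (case hq9083 => (set_option maxRecDepth 1000000 in conv => lhs; reduce)); intro _; exact ?xq9083 : List ℤ)

/-- the values at the type 83 -/
noncomputable def cT83 : List ℤ :=
  (by
  refine (?fq9084 : ((pk61l (fun i1 => (pk61z (pk61d (nat_lit 2) 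
    (nat_lit 0x400008040000000018000068000008100028014000212) i1))) (nat_lit 0) (nat_lit 94) List.nil) : List ℤ)
    = ?xq9084 → (List ℤ)) ?hq9084; (case hq9084 => (set_option maxRecDepth 1000000 in conv => lhs; reduce)); intro _; exact ?xq9084 : List ℤ)

/-- the values at the type 84 -/
noncomputable def cT84 : List ℤ :=
  (by
  refine (?fq9085 : ((pk61l (fun i1 => (pk61z (pk61d (nat_lit 3) 
    (nat_lit 0xc002000000044040125048000021204001000009100804020040000140120200a442) i1))) (nat_lit 0) (nat_lit 94) List.nil) : List ℤ)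
    = ?xq9085 → (List ℤ)) ?hq9085; (case hq9085 => (set_option maxRecDepth 1000000 in conv => lhs; reduce)); intro _; exact ?xq9085 : List ℤ)

/-- the values at the type 85 -/
noncomputable def cT85 : List ℤ :=
  (by
  refine (?fq9086 : ((pk61l (fun i1 => (pk61z (pk61d (nat_lit 3) 
    (nat_lit 0x4004003723208000000002001220040000001023280504404142448440a4b019ca181a) i1))) (nat_lit 0) (nat_lit 94) List.nil) : List ℤ)
    = ?xq9086 → (List ℤ)) ?hq9086; (case hq9086 => (set_option maxRecDepth 1000000 in conv => lhs; reduce)); intro _; exact ?xq9086 : List ℤ)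

/-- the values at the type 86 -/
noncomputable def cT86 : List ℤ :=
  (by
  refine (?fq9087 : ((pk61l (fun i1 => (pk61z (pk61d (nat_lit 3) 
    (nat_lit 0x40000c000400a04908001000220240000004804000005001008005100001025045000a) i1))) (nat_lit 0) (nat_lit 94) List.nil) : List ℤ)
    = ?xq9087 → (List ℤ)) ?hq9087; (case hq9087 => (set_option maxRecDepth 1000000 in conv => lhs; reduce)); intro _; exact ?xq9087 : List ℤ)

/-- the values at the type 87 -/
noncomputable def cT87 : List ℤ :=
  (by
  refine (?fq9088 : ((pk61l (fun i1 => (pk61z (pk61d (nat_lit 4) 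
    (nat_lit 0x400040003344340100550000000030001164064000005000400121300215420040658311531000412663402711022) i1))) (nat_lit 0) (nat_lit 94) List.nil) : List ℤ)
    = ?xq9088 → (List ℤ)) ?hq9088; (case hq9088 => (set_option maxRecDepth 1000000 in conv => lhs; reduce)); intro _; exact ?xq9088 : List ℤ)

/-- the values at the type 88 -/
noncomputable def cT88 : List ℤ :=
  (by
  refine (?fq9089 : ((pk61l (fun i1 => (pk61z (pk61d (nat_lit 3) 
    (nat_lit 0x202c00d89244000000042e005000300008000100001000108000110801000008100b482) i1))) (nat_lit 0) (nat_lit 94) List.nil) : List ℤ)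
    = ?xq9089 → (List ℤ)) ?hq9089; (case hq9089 => (set_option maxRecDepth 1000000 in conv => lhs; reduce)); intro _; exact ?xq9089 : List ℤ)

/-- the values at the type 89 -/
noncomputable def cT89 : List ℤ :=
  (by
  refine (?fq9090 : ((pk61l (fun i1 => (pk61z (pk61d (nat_lit 3) 
    (nat_lit 0x208c009892460000000188805000200008000100001800108000104801800008400a4c2) i1))) (nat_lit 0) (nat_lit 94) List.nil) : List ℤ)
    = ?xq9090 → (List ℤ)) ?hq9090; (case hq9090 => (set_option maxRecDepth 1000000 in conv => lhs; reduce)); intro _; exact ?xq9090 : List ℤ)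

/-- the values at the type 90 -/
noncomputable def cT90 : List ℤ :=
  (by
  refine (?fq9091 : ((pk61l (fun i1 => (pk61z (pk61d (nat_lit 3) 
    (nat_lit 0xc40180d800064a00431049000221908001000009800804800848000400926218a31a) i1))) (nat_lit 0) (nat_lit 94) List.nil) : List ℤ)
    = ?xq9091 → (List ℤ)) ?hq9091; (case hq9091 => (set_option maxRecDepth 1000000 in conv => lhs; reduce)); intro _; exact ?xq9091 : List ℤ)

/-- the values at the type 91 -/
noncomputable def cT91 : List ℤ :=
  (by
  refine (?fq9092 : ((pk61l (fun i1 => (pk61z (pk61d (nat_lit 3) 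
    (nat_lit 0x340200000000001000000000000100000000000100000042000100040001808020a) i1))) (nat_lit 0) (nat_lit 94) List.nil) : List ℤ)
    = ?xq9092 → (List ℤ)) ?hq9092; (case hq9092 => (set_option maxRecDepth 1000000 in conv => lhs; reduce)); intro _; exact ?xq9092 : List ℤ)

/-- the values at the type 92 -/
noncomputable def cT92 : List ℤ :=
  (by
  refine (?fq9093 : ((pk61l (fun i1 => (pk61z (pk61d (nat_lit 2) 
    (nat_lit 0x200000001221000100048000410800012000a1220009442) i1))) (nat_lit 0) (nat_lit 94) List.nil) : List ℤ)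
    = ?xq9093 → (List ℤ)) ?hq9093; (case hq9093 => (set_option maxRecDepth 1000000 in conv => lhs; reduce)); intro _; exact ?xq9093 : List ℤ)

/-- the values at the type 93 -/
noncomputable def cT93 : List ℤ :=
  (by
  refine (?fq9094 : ((pk61l (fun i1 => (pk61z (pk61d (nat_lit 3) 
    (nat_lit 0x310060080008400108341060800220405020844068000821004008200200a08008928a) i1))) (nat_lit 0) (nat_lit 94) List.nil) : List ℤ)
    = ?xq9094 → (List ℤ)) ?hq9094; (case hq9094 => (set_option maxRecDepth 1000000 in conv => lhs; reduce)); intro _; exact ?xq9094 : List ℤ)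

/-- the columns -/
noncomputable def colsT : List (List ℤ) :=
  [cT0, cT1, cT2, cT3, cT4, cT5, cT6, cT7, cT8, cT9, cT10, cT11, cT12, cT13, cT14, cT15, cT16, cT17, cT18,
  cT19, cT20, cT21, cT22, cT23, cT24, cT25, cT26, cT27, cT28, cT29, cT30, cT31, cT32, cT33, cT34, cT35, cT36,
  cT37, cT38, cT39, cT40, cT41, cT42, cT43, cT44, cT45, cT46, cT47, cT48, cT49, cT50, cT51, cT52, cT53, cT54,
  cT55, cT56, cT57, cT58, cT59, cT60, cT61, cT62, cT63, cT64, cT65, cT66, cT67, cT68, cT69, cT70, cT71, cT72,
  cT73, cT74, cT75, cT76, cT77, cT78, cT79, cT80, cT81, cT82, cT83, cT84, cT85, cT86, cT87, cT88, cT89, cT90,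
  cT91, cT92, cT93]

/-- the norms -/
noncomputable def nmT : List ℕ :=
  (by
  refine (?fq9095 : ((pk61l (fun i1 => (pk61d (nat_lit 2) 
    (nat_lit 0xaaaaaaa5555555555555555555555555555555555555555) i1)) (nat_lit 0) (nat_lit 94) List.nil) : List ℕ)
    = ?xq9095 → (List ℕ)) ?hq9095; (case hq9095 => (set_option maxRecDepth 1000000 in set_option simprocs false in conv => lhs; reduce; dsimp only)); intro _; exact ?xq9095 : List ℕ)

/-- the coefficients of the regular character -/
noncomputable def regT : List ℤ :=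
  (by
  refine (?fq9096 : ((pk61l (fun i1 => (pk61z (pk61d (nat_lit 40) 
    (nat_lit 0x5fa0156a805d3c14e1705c1d4000004ca28efe50467ff41a3a413cb2cf003da628f96023dc0807f01e73900000195eb75080089b3520a00504ab4b000008ebdb30000030ef8a9c7a5197008356dcdba0748b1a19cc68e3977d9e67baf000005fe606d94058cb8199c055bc78000053209de3e64ef9ab49804aa6e3800048cb0201a648cb0201a645f16ec00043d2d80000424cdba6004233e345fa40dff000003738e70a1433cc0b99b033cc0b99b02fad44dc022408611d0023e818000022df484f0021266dd3001f5a92c0001db941783c19e605ccd8194134f0e615b380724414fa517f8614b804a3e012a59dc6b011fe7800001162ec9f001129e596e2109336e9800db60312180cf302e66c0ba7829c2e07fdd5e77007f2b5500006c16055820679817336067981733604bc58d5000465856600043ce9ad2803f8d0000003546e75c403037e590002b07780000254b3b8d601876c30da017e8055aa017adbc2900117c5bb0000b799c2b8009f6a6f200096aead62008499b74c007f801c8e004bc58d5000317bca0000218b0f000013009700000d5f18f0000978b1aa0005d41e900004d516ba000446c2f20003e66746000094735e000032de22000010f4b60000079ce4000001c10a00000043be0000000002)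 i1))) (nat_lit 0) (nat_lit 94) List.nil) : List ℤ)
    = ?xq9096 → (List ℤ)) ?hq9096; (case hq9096 => (set_option maxRecDepth 1000000 in set_option simprocs false in conv => lhs; reduce; dsimp only)); intro _; exact ?xq9096 : List ℤ)

/-- the row of each character -/
noncomputable def blkT : List (ℕ × ℤ) :=
  [(0, 1), (1, 1), (2, 1), (3, 1), (4, 1), (80, 1), (80, 1), (5, 1), (6, 1), (7, 1), (8, 1), (9, 1), (10, 1),
  (81, 1), (81, 1), (11, 1), (12, 1), (13, 1), (14, 1), (15, 1), (16, 1), (17, 1), (18, 1), (19, 1), (20, 1),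
  (21, 1), (22, 1), (23, 1), (24, 1), (25, 1), (26, 1), (27, 1), (28, 1), (29, 1), (30, 1), (31, 1), (32, 1),
  (33, 1), (82, 1), (82, 1), (34, 1), (35, 1), (36, 1), (37, 1), (38, 1), (83, 1), (83, 1), (39, 1), (40, 1),
  (41, 1), (42, 1), (43, 1), (44, 1), (45, 1), (46, 1), (47, 1), (48, 1), (49, 1), (50, 1), (84, 1), (84, 1),
  (51, 1), (52, 1), (85, 1), (85, 1), (53, 1), (54, 1), (55, 1), (86, 1), (86, 1), (56, 1), (57, 1), (58, 1),
  (59, 1), (60, 1), (61, 1), (87, 1), (87, 1), (62, 1), (88, 1), (88, 1), (63, 1), (64, 1), (65, 1), (66, 1),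
  (89, 1), (89, 1), (67, 1), (68, 1), (69, 1), (90, 1), (90, 1), (70, 1), (71, 1), (72, 1), (73, 1), (91, 1),
  (91, 1), (92, 1), (92, 1), (93, 1), (93, 1), (74, 1), (75, 1), (76, 1), (77, 1), (78, 1), (79, 1)]

/-- the degrees -/
noncomputable def degs : List ℕ :=
  (by
  refine (?fq9097 : ((pk61l (fun i1 => (pk61d (nat_lit 39) 
    (nat_lit 0x9c7a51970106adb9b741d22c686733471cbbecf67baf00000bfcc0db2817e8055aa02fd00ab5405d3c14e170ba7829c2e17075000002e0ea0000058cb8199c0ab78f000014c82778f9a77cd5a4c04ca28efe5099451dfca12a9b8e00024658100d348cb0201a68cffe8347519ffd068ea2f8b7600043d2d800008499b74c0108cf8d17ea09e596780413cb2cf0081bfe00000f698a3e581ed3147cb03738e70a146798173360cf302e66c17d6a26e012408611d0047d03000008f70201fc11ee0403f822df484f00424cdba6007d6a4b0000f39c800001e739000003b7282f0786798173360caf5ba840195eb75080328269e1cc56ce01c910a7d28bfc314b804a3e0254b3b8d6047f9e000008b1764f801129e596e221266dd30036d80c48606798173360ba7829c2e11366a4140226cd482803feeaf3b807f2b550000d82c0ab0419e605ccd833cc0b99b0504ab4b000a0956960012f1635400232c2b300043ce9ad2807f1a000000d51b9d710181bf2c8002b077800004a96771ac061db0c3680bf402ad5017adbc290022f8b760002de670ae004fb537900096aead620109336e9801fe007238025e2c6a800317bca000043161e00004c025c00006af8c78000978b1aa0011d7b6600023af6cc0002ea0f480004d516ba00088d85e4000f999d180004a39af000032de22000061df140000c3be28000087a5b0000079ce400000382140000010ef8000000001)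 i1)) (nat_lit 0) (nat_lit 108) List.nil) : List ℕ)
    = ?xq9097 → (List ℕ)) ?hq9097; (case hq9097 => (set_option maxRecDepth 1000000 in set_option simprocs false in conv => lhs; reduce; dsimp only)); intro _; exact ?xq9097 : List ℕ)

/-- the constituents of the rows -/
noncomputable def consT : List (List (ℕ × ℤ)) :=
  [[(0, 1)], [(1, 1)], [(2, 1)], [(3, 1)], [(4, 1)], [(7, 1)], [(8, 1)], [(9, 1)], [(10, 1)], [(11, 1)],
  [(12, 1)], [(15, 1)], [(16, 1)], [(17, 1)], [(18, 1)], [(19, 1)], [(20, 1)], [(21, 1)], [(22, 1)],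
  [(23, 1)], [(24, 1)], [(25, 1)], [(26, 1)], [(27, 1)], [(28, 1)], [(29, 1)], [(30, 1)], [(31, 1)],
  [(32, 1)], [(33, 1)], [(34, 1)], [(35, 1)], [(36, 1)], [(37, 1)], [(40, 1)], [(41, 1)], [(42, 1)],
  [(43, 1)], [(44, 1)], [(47, 1)], [(48, 1)], [(49, 1)], [(50, 1)], [(51, 1)], [(52, 1)], [(53, 1)],
  [(54, 1)], [(55, 1)], [(56, 1)], [(57, 1)], [(58, 1)], [(61, 1)], [(62, 1)], [(65, 1)], [(66, 1)],
  [(67, 1)], [(70, 1)], [(71, 1)], [(72, 1)], [(73, 1)], [(74, 1)], [(75, 1)], [(78, 1)], [(81, 1)],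
  [(82, 1)], [(83, 1)], [(84, 1)], [(87, 1)], [(88, 1)], [(89, 1)], [(92, 1)], [(93, 1)], [(94, 1)],
  [(95, 1)], [(102, 1)], [(103, 1)], [(104, 1)], [(105, 1)], [(106, 1)], [(107, 1)], [(5, 1), (6, 1)],
  [(13, 1), (14, 1)], [(38, 1), (39, 1)], [(45, 1), (46, 1)], [(59, 1), (60, 1)], [(63, 1), (64, 1)],
  [(68, 1), (69, 1)], [(76, 1), (77, 1)], [(79, 1), (80, 1)], [(85, 1), (86, 1)], [(90, 1), (91, 1)],
  [(96, 1), (97, 1)], [(98, 1), (99, 1)], [(100, 1), (101, 1)]]

theorem okLenT : DT.okLen := ⟨by decide +kernel, by decide +kernel, by decide +kernel⟩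

theorem takeT : colsT.map (List.take nmT.length) = colsT := by (refine of_decide_eq_true ?_; (try (rewrite [Cfsg.Agent.LsF.map_eq, Cfsg.Agent.LsF.take_eq, Cfsg.Agent.LsF.instIDecEq_eq, Cfsg.Agent.LsF.dListEq_eq, Cfsg.Agent.LsF.length_eq, Cfsg.Agent.LsF.decide_eq])); decide +kernel)

theorem gramT : chkG DT colsT (nmT.map fun n => (n, 0)) 2 (3 ^ 55) = true :=
  Cfsg.Agent.TAB.Pk.chkG_of (by decide +kernel)

private noncomputable def _root_.Cfsg.Agent.LsF.f5abb1a_0 : {f // @Cfsg.Agent.TAB.Eng.Dat.ord = f} := ⟨_, by first | (delta Cfsg.Agent.TAB.Eng.Dat.ord; rewrite [Cfsg.Agent.LsF.getD_eq]; exact rfl) | exact rfl⟩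
private noncomputable def _root_.Cfsg.Agent.LsF.f5abb1a_1 : {f // @Cfsg.Agent.TAB.Eng.Dat.cnt = f} := ⟨_, by first | (delta Cfsg.Agent.TAB.Eng.Dat.cnt; rewrite [Cfsg.Agent.LsF.getD_eq]; exact rfl) | exact rfl⟩
private noncomputable def _root_.Cfsg.Agent.LsF.f5abb1a_2 : {f // @Cfsg.Agent.TAB.Eng.dotL = f} := ⟨_, by first | (delta Cfsg.Agent.TAB.Eng.dotL; rewrite [Cfsg.Agent.LsF.iadd_eq, Cfsg.Agent.LsF.imul_eq]; exact rfl) | exact rfl⟩
private noncomputable def _root_.Cfsg.Agent.LsF.f5abb1a_3 : {f // @Cfsg.Agent.TAB.Eng.allL = f} := ⟨_, by first | (delta Cfsg.Agent.TAB.Eng.allL; rewrite [Cfsg.Agent.LsF.cond_eq]; exact rfl) | exact rfl⟩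
private noncomputable def _root_.Cfsg.Agent.LsF.f5abb1a_4 : {f // @Cfsg.Agent.TAB.Eng.okRho = f} := ⟨_, by first | (delta Cfsg.Agent.TAB.Eng.okRho; rewrite [Cfsg.Agent.LsF.f5abb1a_2.2, Cfsg.Agent.LsF.f5abb1a_3.2, Cfsg.Agent.LsF.and_eq, Cfsg.Agent.LsF.instIDecEq_eq, Cfsg.Agent.LsF.decide_eq]; exact rfl) | exact rfl⟩
private noncomputable def _root_.Cfsg.Agent.LsF.f5abb1a_5 : {f // @Cfsg.Agent.TAB.Eng.ipL = f} := ⟨_, by first | (delta Cfsg.Agent.TAB.Eng.ipL; rewrite [Cfsg.Agent.LsF.iadd_eq, Cfsg.Agent.LsF.imul_eq]; exact rfl) | exact rfl⟩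
private noncomputable def _root_.Cfsg.Agent.LsF.f5abb1a_6 : {f // @Cfsg.Agent.TAB.Eng.ip = f} := ⟨_, by first | (delta Cfsg.Agent.TAB.Eng.ip; rewrite [Cfsg.Agent.LsF.f5abb1a_5.2]; exact rfl) | exact rfl⟩
private noncomputable def _root_.Cfsg.Agent.LsF.f5abb1a_7 : {f // @Cfsg.Agent.TAB.Eng.look = f} := ⟨_, by first | (delta Cfsg.Agent.TAB.Eng.look List.brecOn List.brecOn.go Cfsg.Agent.TAB.Eng.look._f; rewrite [Cfsg.Agent.LsF.instDecEq_eq, Cfsg.Agent.LsF.ite_eq]; (try delta Cfsg.Agent.TAB.Eng.look.match_1); (try delta List.casesOn); first | dsimp -zeta only | exact rfl) | exact rfl⟩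
private noncomputable def _root_.Cfsg.Agent.LsF.f5abb1a_8 : {f // @Cfsg.Agent.TAB.Eng.Dat.pw = f} := ⟨_, by first | (delta Cfsg.Agent.TAB.Eng.Dat.pw; rewrite [Cfsg.Agent.LsF.getD_eq]; exact rfl) | exact rfl⟩
private noncomputable def _root_.Cfsg.Agent.LsF.f5abb1a_9 : {f // @Cfsg.Agent.TAB.Eng.Dat.pwf = f} := ⟨_, by first | (delta Cfsg.Agent.TAB.Eng.Dat.pwf; rewrite [Cfsg.Agent.LsF.f5abb1a_7.2, Cfsg.Agent.LsF.f5abb1a_8.2, Cfsg.Agent.LsF.f5abb1a_0.2]; exact rfl) | exact rfl⟩
private noncomputable def _root_.Cfsg.Agent.LsF.f5abb1a_10 : {f // @Cfsg.Agent.TAB.Eng.sepS = f} := ⟨_, by first | (delta Cfsg.Agent.TAB.Eng.sepS; rewrite [Cfsg.Agent.LsF.f5abb1a_1.2, Cfsg.Agent.LsF.f5abb1a_6.2, Cfsg.Agent.LsF.f5abb1a_9.2, Cfsg.Agent.LsF.imul_pat, Cfsg.Agent.LsF.isub_pat, Cfsg.Agent.LsF.imod_pat, Cfsg.Agent.LsF.icast_pat, Cfsg.Agent.LsF.instIBEq_pat, Cfsg.Agent.LsF.and_eq, Cfsg.Agent.LsF.or_eq, Cfsg.Agent.LsF.decLt_eq, Cfsg.Agent.LsF.any_eq, Cfsg.Agent.LsF.map_eq, Cfsg.Agent.LsF.replicate_eq, Cfsg.Agent.LsF.range_eq,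 Cfsg.Agent.LsF.bne_eq, Cfsg.Agent.LsF.decide_eq]; exact rfl) | exact rfl⟩
private noncomputable def _root_.Cfsg.Agent.LsF.f5abb1a_11 : {f // @Cfsg.Agent.TAB.Eng.okSep = f} := ⟨_, by first | (delta Cfsg.Agent.TAB.Eng.okSep; rewrite [Cfsg.Agent.LsF.f5abb1a_3.2, Cfsg.Agent.LsF.f5abb1a_10.2, Cfsg.Agent.LsF.iadd_pat, Cfsg.Agent.LsF.imul_pat, Cfsg.Agent.LsF.ineg_pat, Cfsg.Agent.LsF.and_eq, Cfsg.Agent.LsF.or_eq, Cfsg.Agent.LsF.map_eq, Cfsg.Agent.LsF.range_eq, Cfsg.Agent.LsF.length_eq]; exact rfl) | exact rfl⟩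
private noncomputable def _root_.Cfsg.Agent.LsF.f5abb1a_12 : {f // @Cfsg.Agent.TAB.Eng.sdeg = f} := ⟨_, by first | (delta Cfsg.Agent.TAB.Eng.sdeg; rewrite [Cfsg.Agent.LsF.nadd_pat, Cfsg.Agent.LsF.nsub_pat, Cfsg.Agent.LsF.fsum_eq, Cfsg.Agent.LsF.ffilter_eq, Cfsg.Agent.LsF.frange_eq, Cfsg.Agent.LsF.iACM_eq, Cfsg.Agent.LsF.instDecEq_eq, Cfsg.Agent.LsF.decLt_eq, Cfsg.Agent.LsF.ite_eq]; exact rfl) | exact rfl⟩
private noncomputable def _root_.Cfsg.Agent.LsF.f5abb1a_13 : {f // @Int.sign = f} := ⟨_, by first | (delta Int.sign; rewrite [Cfsg.Agent.LsF.ineg_pat]; (try delta Int.sign.match_1); (try delta Int.casesOn Nat.casesOn); exact rfl) | exact rfl⟩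
private noncomputable def _root_.Cfsg.Agent.LsF.f5abb1a_14 : {f // @Cfsg.Agent.TAB.Eng.cntP = f} := ⟨_, by first | (delta Cfsg.Agent.TAB.Eng.cntP; rewrite [Cfsg.Agent.LsF.cond_eq]; exact rfl) | exact rfl⟩
private noncomputable def _root_.Cfsg.Agent.LsF.f5abb1a_15 : {f // @Cfsg.Agent.TAB.Eng.mlt = f} := ⟨_, by first | (delta Cfsg.Agent.TAB.Eng.mlt; rewrite [Cfsg.Agent.LsF.instDecEq_eq, Cfsg.Agent.LsF.decLt_eq, Cfsg.Agent.LsF.ite_eq]; exact rfl) | exact rfl⟩
private noncomputable def _root_.Cfsg.Agent.LsF.f5abb1a_16 : {f // @Cfsg.Agent.TAB.Eng.relC = f} := ⟨_, by first | (delta Cfsg.Agent.TAB.Eng.relC; rewrite [Cfsg.Agent.LsF.nadd_pat, Cfsg.Agent.LsF.nsub_pat, Cfsg.Agent.LsF.cond_eq]; exact rfl) | exact rfl⟩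
private noncomputable def _root_.Cfsg.Agent.LsF.f5abb1a_17 : {f // @Cfsg.Agent.TAB.Eng.okFin0 = f} := ⟨_, by first | (delta Cfsg.Agent.TAB.Eng.okFin0; rewrite [Cfsg.Agent.LsF.f5abb1a_0.2, Cfsg.Agent.LsF.f5abb1a_1.2, Cfsg.Agent.LsF.f5abb1a_4.2, Cfsg.Agent.LsF.f5abb1a_3.2, Cfsg.Agent.LsF.f5abb1a_11.2, Cfsg.Agent.LsF.f5abb1a_12.2, Cfsg.Agent.LsF.f5abb1a_13.2, Cfsg.Agent.LsF.f5abb1a_14.2, Cfsg.Agent.LsF.f5abb1a_15.2, Cfsg.Agent.LsF.f5abb1a_16.2, Cfsg.Agent.LsF.nadd_pat, Cfsg.Agent.LsF.imul_pat, Cfsg.Agent.LsF.icast_pat, Cfsg.Agent.LsF.dProdEq_eq, Cfsg.Agent.LsF.and_eq, Cfsg.Agent.LsF.instDecEq_eq, Cfsg.Agent.LsF.range_eq, Cfsg.Agent.LsF.getD_eq, Cfsg.Agent.LsF.instIDecEq_eq, Cfsg.Agent.LsF.dListEq_eq, Cfsg.Agent.LsF.length_eq, Cfsg.Agent.LsF.decide_eq]; exact rfl) | exact rfl⟩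
theorem finT : okFin0 DT colsT (nmT.map fun n => (n, 0)) regT blkT degs consT = true := by ((try (rewrite [Cfsg.Agent.LsF.f5abb1a_17.2, Cfsg.Agent.LsF.map_eq])); decide +kernel)

end Cfsg.Agent.TAB.F24
end

-- part: TAB/F24C/EY
section
set_option linter.all false
open scoped Cfsg.Agent.FastGrp

/-!
# `Fi₂₄` : the box e from the centralizers of the types 7, 24 and 80 (helper96, TAB)
-/

set_option autoImplicit false
set_option maxRecDepth 100000

namespace Cfsg.Agent.TAB.F24C

open Cfsg.Agent.TAB.Eng Cfsg.Agent.TAB.PE Cfsg.Agent.TAB.F24 Cfsg.Agent.TAB.CE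
open Cfsg.Agent.H52.ThreeFi24 (q3)
open Cfsg.Spor

/-- the bound -/
def CB (t c : ℕ) : Prop := Nat.card (Subgroup.centralizer ({q3 (Y t)} : Set Fi24)) ≤ c

theorem CB.pw (d : BoxD Y) {t k s c : ℕ} (hc : CB s c) (h : (decide (t < 94) && decide ((k, s) ∈ DT.pw t)) = true) :
    Nat.card (Subgroup.centralizer ({q3 (Y t) ^ k} : Set Fi24)) ≤ c := by
  rw [Bool.and_eq_true, decide_eq_true_eq, decide_eq_true_eq] at h
  obtain ⟨m, h1, h2⟩ := rl_pw d h.1 h.2
  exact (cen_rl h1 h2).le.trans hc

theorem cb_of {t w e k c c' : ℕ} (h : (Nat.beq (yc.getD t 0) w && Nat.beq (ye.getD t 0) e) = true)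
    (h1 : Nat.card (Subgroup.centralizer ({(el w ^ e) ^ k} : Set Fi24)) ≤ c →
      Nat.card (Subgroup.centralizer ({el w ^ e} : Set Fi24)) ≤ c')
    (h2 : Nat.card (Subgroup.centralizer ({q3 (Y t) ^ k} : Set Fi24)) ≤ c) : CB t c' := by
  rw [Bool.and_eq_true] at h
  rw [q3_Y, Nat.eq_of_beq_eq_true h.1, Nat.eq_of_beq_eq_true h.2] at h2
  rw [CB, q3_Y, Nat.eq_of_beq_eq_true h.1, Nat.eq_of_beq_eq_true h.2]
  exact h1 h2

theorem cb33 (h23 : Box23) (d : BoxD Y) : CB 33 118098 := by
  have h := (A.ordT_pwT d).1 33 (by decide)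
  rw [q3_Y, show yc.getD 33 0 = 0x6c31b42c9531b46a8275 by decide +kernel, show ye.getD 33 0 = 3 by decide +kernel,
    show DT.ord 33 = 9 by decide +kernel] at h
  exact cb_of (by decide +kernel) (E33.cen h) (cen_pow h23 d (boxO_of d) (s := 6) (by decide +kernel))

/-- **the centralizers** -/
theorem cenY (h23 : Box23) (d : BoxD Y) (c7 : CB 7 76422528) (c24 : CB 24 4116) (c80 : CB 80 29) :
    ∀ a ∈ cenT, Nat.card (Subgroup.centralizer ({q3 (Y a.1)} : Set Fi24)) ≤ a.2 := by
  have o := boxO_of d
  have c22 : CB 22 10368 := cb_of (by decide +kernel) E22.cen (c7.pw d (by decide +kernel))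
  have c27 : CB 27 1536 := cb_of (by decide +kernel) E27.cen (cen_pow h23 d o (s := 8) (by decide +kernel))
  have c33 := cb33 h23 d
  have c48 : CB 48 864 := cb_of (by decide +kernel) E48.cen (c22.pw d (by decide +kernel))
  have c51 : CB 51 84 := cb_of (by decide +kernel) E51.cen (c24.pw d (by decide +kernel))
  have c54 : CB 54 810 := cb_of (by decide +kernel) E54.cen (cen_pow h23 d o (s := 11) (by decide +kernel))
  have c63 : CB 63 108 := cb_of (by decide +kernel) E63.cen (cen_pow h23 d o (s := 29) (by decide +kernel))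
  have c65 : CB 65 160 := cb_of (by decide +kernel) E65.cen (cen_pow h23 d o (s := 34) (by decide +kernel))
  have c67 : CB 67 126 := cb_of (by decide +kernel) E67.cen (cen_pow h23 d o (s := 23) (by decide +kernel))
  have c68 : CB 68 42 := cb_of (by decide +kernel) E68.cen (c24.pw d (by decide +kernel))
  have c74 : CB 74 48 := cb_of (by decide +kernel) E74.cen (cen_pow h23 d o (s := 39) (by decide +kernel))
  have c75 : CB 75 72 := cb_of (by decide +kernel) E75.cen (c48.pw d (by decide +kernel))
  have c78 : CB 78 81 := cb_of (by decide +kernel) E78.cen (c33.pw d (by decide +kernel))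
  have c83 : CB 83 66 := cb_of (by decide +kernel) E83.cen (cen_pow h23 d o (s := 36) (by decide +kernel))
  have c87 : CB 87 432 := cb_of (by decide +kernel) E87.cen (cen_pow h23 d o (s := 60) (by decide +kernel))
  have c89 : CB 89 117 := cb_of (by decide +kernel) E89.cen (cen_pow h23 d o (s := 49) (by decide +kernel))
  have c91 : CB 91 42 := (Subgroup.card_le_of_le (cen_le_pow _ 2)).trans (c68.pw d (by decide +kernel))
  have c92 : CB 92 45 := cb_of (by decide +kernel) E92.cen (c54.pw d (by decide +kernel))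
  simp only [cenT, List.forall_mem_cons, List.not_mem_nil, false_imp_iff, implies_true, and_true]
  exact ⟨c7, c22, c24, c27, c33, c48, c51, c54, c63, c65, c67, c68, c74, c75, c78, c80, c83, c87, c89, c91, c92⟩

/-- **the box e** -/
theorem boxE_of (h23 : Box23) (d : BoxD Y) (c7 : CB 7 76422528) (c24 : CB 24 4116) (c80 : CB 80 29) : BoxE Y :=
  ⟨cenY h23 d c7 c24 c80, n83_of h23 d, s63_of d⟩

end Cfsg.Agent.TAB.F24C

private theorem dce_612d033c3b21 : _root_.True := by
  try have : _root_.True := by simp only [_root_.Cfsg.Agent.TAB.F24C.CB.eq_1]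
  try have : _root_.True := by simp only [_root_.Cfsg.Agent.TAB.F24C.cenT.eq_1]
  exact _root_.True.intro
end
end
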