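import Cfsg.Agent.TAB.F24C.E22_m3
import Cfsg.Agent.H713.HT.FiCx
import Cfsg.Agent.H143.HT.FiYY
import Cfsg.Agent.TAB.Sm2.M24_m3
import Cfsg.Agent.TAB.F24.TabT_m3
import Cfsg.Agent.TAB.F24C.E63_m3
import Cfsg.Agent.TAB.F24C.DMain_m3
import Cfsg.Agent.TAB.F24C.DFix
import Cfsg.Agent.TAB.F24C.DFix3
import Cfsg.Agent.Prune
set_option linter.all false

section
prune_inst 0x7f00000000000000000000000000000000000000000000000000000000000000000000000000000000000000000000000000000000000000000000000000000000000000000000000000000000000000003fffffffffffffffffffffffffffbeffbdffffffff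

-- part: TAB/F24C/E24
section
set_option linter.all false
open scoped Cfsg.Agent.FastGrp

/-!
# `Fi₂₄` : the centralizer of an element of the class 7B (helper89, TAB)
-/

set_option autoImplicit false
set_option maxRecDepth 100000
set_option Elab.async false

namespace Cfsg.Agent.TAB.F24C

open Cfsg.Agent.TAB.PE
open Cfsg.Agent.H843.Pat (dec)
open Cfsg.Agent.H52.ThreeFi24 (q3)
open Cfsg.Spor

/-- the centralizer in a subgroup of index 2 -/
theorem cenE_two {G : Type} [Group G] [Finite G] {N : Subgroup G} (h2 : N.index = 2) (x : N) :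
    Nat.card (Subgroup.centralizer ({(x : G)} : Set G)) ≤ 2 * Nat.card (Subgroup.centralizer ({x} : Set N)) := by
  set C := Subgroup.centralizer ({(x : G)} : Set G) with hC
  have h1 : Nat.card (N.subgroupOf C) * (N.subgroupOf C).index = Nat.card C := Subgroup.card_mul_index _
  have h3 : (N.subgroupOf C).index ≤ 2 := by
    have h5 : N.relIndex ⊤ = 2 := (Subgroup.relIndex_top_right N).trans h2
    exact (Subgroup.relIndex_le_of_le_right (H := N) (K := C) (L := ⊤) le_top (by rw [h5]; norm_num)).trans h5.le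
  have h4 : Nat.card (N.subgroupOf C) ≤ Nat.card (Subgroup.centralizer ({x} : Set N)) := by
    refine Nat.card_le_card_of_injective (fun g => ⟨⟨(g.1 : G), g.2⟩, ?_⟩) fun a b hab => ?_
    · exact Subgroup.mem_centralizer_singleton_iff.2
        (Subtype.ext (Subgroup.mem_centralizer_singleton_iff.1 g.1.2))
    · exact Subtype.ext (Subtype.ext (congrArg (fun z => ((z.1 : N) : G)) hab))
  rw [← h1, mul_comm]
  exact Nat.mul_le_mul h3 h4

/-- the code of the element of the library -/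
def w24 : ℕ :=
  0xb43546547687bcb6547898765a987654b6547689bcb65476879b6543456789ab65476879cb654765879ab6789a21bcb786756b45

theorem w24_eq : el w24 ^ 1 = H842.SevenSyl.c := by
  rw [pow_one, el, show dec 5000 w24 = H842.SevenK.cw by decide +kernel]
  rfl

theorem cj24 : cjB cx (ap (yc.getD 24 0) (ye.getD 24 0)) (ap w24 1)
    0xc6b7c6b564756b76549384756b786978a987c6b5c64b753641b75c8642b7536495ac869b7c869b75a8649b75864197532a8419 = true := by
  decide +kernel

/-- **type 24** -/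
theorem cen24 : Nat.card (Subgroup.centralizer ({q3 (Y 24)} : Set Fi24)) ≤ 4116 := by
  rw [q3_Y, cenE_conj (isConj_of_cjB ok.toOk0 rig (acts _ _) (acts _ _) cj24), w24_eq]
  have h := cenE_two R08.FiTwentyFour.index_commutator H468.K6.Fi.cc
  have h1 := H713.HT.FiCx.card_cc H143.HT.FiYY.card_yy
  exact h.trans (Nat.mul_le_mul_left 2 h1.le)

end Cfsg.Agent.TAB.F24C
end

-- part: TAB/F24C/E7
section
set_option linter.all false
open scoped Cfsg.Agent.FastGrp

/-!
# `Fi₂₄` : the centralizer of an element of the class 3E (helper89, TAB)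
-/

set_option autoImplicit false
set_option maxRecDepth 100000
set_option Elab.async false

namespace Cfsg.Agent.TAB.F24C

open Cfsg.Agent.TAB.PE
open Cfsg.Agent.H843.Pat (dec)
open Cfsg.Agent.H52.ThreeFi24 (q3)
open Cfsg.Spor

/-- the code of the element of the library -/
def w7 : ℕ :=
  0x3456bc76b8978567456bc867456ba9876543456789ab654768cb6547658798b67cb6543a9876b567456b89786756ba98765456789ab65768798b654765b6789a21

theorem w7_eq : el w7 ^ 1 = H48.WFour.w := by
  rw [pow_one, el, show dec 5000 w7 = H48.OreFi.WFourK.ww by decide +kernel]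
  rfl

theorem cj7 : cjB cx (ap (yc.getD 7 0) (ye.getD 7 0)) (ap w7 1)
    0x56b76876545c6b786753645c69b7c869b7867564b5678a987c613b5642753864975a869b7c869b75a8649b75c869b75ac641b3 = true := by
  decide +kernel

/-- **type 7** -/
theorem cen7 : Nat.card (Subgroup.centralizer ({q3 (Y 7)} : Set Fi24)) ≤ 76422528 := by
  rw [q3_Y, cenE_conj (isConj_of_cjB ok.toOk0 rig (acts _ _) (acts _ _) cj7), w7_eq]
  exact SB.F24.cent_w

end Cfsg.Agent.TAB.F24C
end

-- part: TAB/F24C/EL
section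
set_option linter.all false

/-!
# `Fi₂₄` : box e from the centralizers (helper89, TAB)
-/

set_option autoImplicit false

namespace Cfsg.Agent.TAB.F24C

open Cfsg.Agent.H52.ThreeFi24 (q3)
open Cfsg.Spor

end Cfsg.Agent.TAB.F24C
end

-- part: TAB/F24C/EZ
section
set_option linter.all false

/-!
# `Fi₂₄` : box e (helper89, TAB)
-/

set_option autoImplicit false

namespace Cfsg.Agent.TAB.F24C

/-- **box e** -/
theorem boxE (d : BoxD Y) : BoxE Y := boxE_of box23 d cen7 cen24 (cen80 d)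

/-- the interface from box d alone -/
theorem in_of_d (d : BoxD Y) : F24.In := in_of box23 d (boxE d) (boxO_of d)

end Cfsg.Agent.TAB.F24C
end

-- part: TAB/F24/CertT
section
set_option linter.all false

/-- decoders of the packed data (elaboration time only) -/
private noncomputable def pk61d (b S i : Nat) : Nat := Nat.mod (Nat.shiftRight S (Nat.mul b i)) (Nat.shiftLeft (nat_lit 1) b)
private noncomputable def pk61c {α : Type} (t : Nat) (a : α) (f : Nat → α) : α := Nat.rec a (fun k _ => f k) t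
private noncomputable def pk61f {α : Type} (t : Nat) (f : Nat → α) : α := Nat.rec (f Nat.zero) (fun k _ => f (Nat.succ k)) t
private noncomputable def pk61z (t : Nat) : Int := pk61f t fun t =>
  pk61c (Nat.mod t (nat_lit 2)) (Int.ofNat (Nat.div t (nat_lit 2))) fun _ => Int.negSucc (Nat.div t (nat_lit 2))
private noncomputable def pk61l {α : Type} (f : Nat → α) (s e : Nat) (tl : List α) : List α :=
  pk61f e fun e => Nat.rec tl (fun k ih => List.cons (pk61f (Nat.sub e (Nat.succ k)) f) ih) (Nat.sub e s)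

/-!
# The table of `Fi₂₄'` : certificates (helper16, TAB)
-/

set_option autoImplicit false
set_option maxRecDepth 100000

namespace Cfsg.Agent.TAB.F24

open Cfsg.Agent.TAB.Eng Cfsg.Agent.TAB.Glue Cfsg.Agent.TAB.Cov

/-- the trivial character -/
def oneT : List ℤ := List.replicate 94 1

/-- a seed -/
noncomputable def sT0 : List ℤ :=
  (by
  refine (?fq9001 : ((pk61l (fun i1 => (pk61z (pk61d (nat_lit 44) 
    (nat_lit 0xe3b693e4400000054d620000001d8dde0000002861000000010bc000000007cf100000000870000000005570000000046e00000000399800000001e6000000000fc000000000a5800000000a20000000005b400000000480000000003600000000032c000000001e8000000001e000000000150000000000f0000000000d4000000000a400000000064000000000600000000005c0000000003800000000030000000000280000000002400000000018000000000140000000000c00000000008000000000040000000000200000000000) (pk61d (nat_lit 6) 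
    (nat_lit 0x10000410000010420010010400000000010020430000001c60040010012c500414600054000900c2400032060544d728e00030d3c67406986d240044065f0167228e07a4865) i1)))) (nat_lit 0) (nat_lit 94) List.nil) : List ℤ)
    = ?xq9001 → (List ℤ)) ?hq9001; (case hq9001 => (set_option maxRecDepth 1000000 in conv => lhs; reduce)); intro _; exact ?xq9001 : List ℤ)

/-- a seed -/
noncomputable def sT1 : List ℤ :=
  (by
  refine (?fq9002 : ((pk61l (fun i1 => (pk61z (pk61d (nat_lit 53) 
    (nat_lit 0x383f1ea5af9000000015358800000000446521800000001a8e840000000013d1780000000093a8000000000032a000000000013c680000000008dc0000000000057c000000000020a00000000000a2000000000003cc00000000001b000000000000a20000000000048000000000002298000000000102c00000000003000000000000111000000000006c0000000000024000000000000fc000000000004b0000000000018000000000000a00000000000018000000000000900000000000030000000000000c00000000000030000000000001000000000000040000000000000) (pk61d (nat_lit 6) 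
    (nat_lit 0x30000010020000000c00000000010000050000001800060010002850041c00004c000700c0000052000104911cb0002403806406165543003405db00f01e7dd6a0721) i1)))) (nat_lit 0) (nat_lit 94) List.nil) : List ℤ)
    = ?xq9002 → (List ℤ)) ?hq9002; (case hq9002 => (set_option maxRecDepth 1000000 in conv => lhs; reduce)); intro _; exact ?xq9002 : List ℤ)

/-- a seed -/
noncomputable def sT2 : List ℤ :=
  (by
  refine (?fq9003 : ((pk61l (fun i1 => (pk61z (pk61d (nat_lit 57) 
    (nat_lit 0x4913a2c64715008000003e4a748040000001e0243c0000000028dea010000000001338c00000000006fe040000000000b640000000000046e000000000001ff0800000000005b2000000000002d1200000000000b01000000000002d900000000000144000000000000510000000000001b0000000000000af80000000000018c000000000000a2000000000000480000000000001080000000000005400000000000024000000000000090000000000000180000000000000400000000000000) (pk61d (nat_lit 5) 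
    (nat_lit 0x10000108001000000042000022000000000109000108605800000000000e3299c004400320c950000982800340c8564f06000b66fa) i1)))) (nat_lit 0) (nat_lit 94) List.nil) : List ℤ)
    = ?xq9003 → (List ℤ)) ?hq9003; (case hq9003 => (set_option maxRecDepth 1000000 in conv => lhs; reduce)); intro _; exact ?xq9003 : List ℤ)

/-- a seed -/
noncomputable def sT3 : List ℤ :=
  (by
  refine (?fq9004 : ((pk61l (fun i1 => (pk61z (pk61d (nat_lit 63) 
    (nat_lit 0x3e812a5a7ee6f0000000000413d5ba0000000002e7a7630000000000b6b98000000000003a0f2a0000000000021f8c0000000000005d940000000000005b2000000000000051000000000000009e000000000000009000000000000000f0800000000000013f000000000000014400000000000001300000000000000170000000000000009000000000000001100000000000000148000000000000019000000000000001c0000000000000014000000000000001000000000000000100000000000000010000000000000000) (pk61d (nat_lit 5) 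
    (nat_lit 0x100021000010800100420000000040208c00000000000100504000800000000000000030002e5b4a7000065240090011600008000f9df15a02d9) i1)))) (nat_lit 0) (nat_lit 94) List.nil) : List ℤ)
    = ?xq9004 → (List ℤ)) ?hq9004; (case hq9004 => (set_option maxRecDepth 1000000 in conv => lhs; reduce)); intro _; exact ?xq9004 : List ℤ)

/-- the new seeds -/
noncomputable def sdT : List (List ℤ × ℕ × ℕ) := [(sT0, 1, 2), (sT1, 0, 2), (sT2, 1, 3), (sT3, 1, 4)]

theorem ok_sdT : chkSd DT [piL, oneT] sdT = true := by decide +kernel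

/-- the seeds -/
noncomputable def seedsT : List (List ℤ) := [piL, oneT] ++ sdT.map Prod.fst

/-- the levels -/
noncomputable def lvT : List Lv :=
  (by
  refine (?fq9005 : ((pk61l (fun i1 => (_root_.Cfsg.Agent.TAB.Glue.Lv.mk (pk61d (nat_lit 7) 
    (nat_lit 0x2edba94684b930a0c07cf1db66ab56284a8d11e3660b96244480f1c305890c142030406e58ad4e94f9b15cb866bd72a529d321407ce9c345498d101c555992233a606653762527437b6a232aeadfb44966380) i1) (pk61d (nat_lit 2) 
    (nat_lit 0x556aaaaaaaaaaaaaaaaa556aaaaaaaaaaa9aaaaaa9a6a9a) i1) (pk61d (nat_lit 6) 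
    (nat_lit 0x41041041041041041041041041041041041041041041041041041041043041041041041041041041041041041041041041041d81041041049041052041081044042041081041) i1) ((fun g1 : Nat → Nat => pk61l (fun i2 => (pk61d (nat_lit 6) 
    (nat_lit 0x104204607304004204f03104104004016704100200317208104004014f04100204900f04004300804d04100204b18704000204604b0410400051290800420111e40800420461dd08000300416308100204e04908000200220e08100204120f04104000e08c0810020080b10410020410a704100104f04804100100214904104200c12408000200c2020810000470750800020100ef04100004219e0410020470990810400100640800000411da04000000b10708104204420d08000304b0610810420440630800410080610400000021b508004304821c04000104b06b0400410501900400030091a30810400500f300008028088004204f1ea00100014570004000f14c0400012c160000000200f04104000194004200906604108108460000000c20404104140450100105022c0000c11812c104200f19a0400402815800000510a50410400439c10420020b20400812c3801003001060001040342c4000204109c0410c12874010010010ea0010010c698004000515b04000128060000200f08a0010000c30400001430400c10480400004410000003480410003c10010c10c80400002400430480410001c104304f0000000010c1000041000080002000040001040041)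 i2)) (g1 i1) (g1 (Nat.succ i1)) List.nil) fun j => (pk61d (nat_lit 10) 
    (nat_lit 0x25d9564d9163d8d62d8961d8560d815fd7d5ed795dd755cd715bd6d5ad6959d6558d6157d5d56d5955d5554d5153d4d52d4951e45d10425023ecf43b4e637cd8344ca30cbc2d4ae29ca02649222c841f4761bc681845a1504e120420f0360c02b0982107018050100340a01c0500c02004000000000000) j)) _root_.Bool.true)) (nat_lit 0) (nat_lit 94) List.nil) : List Lv)
    = ?xq9005 → (List Lv)) ?hq9005; (case hq9005 => (set_option maxRecDepth 1000000 in conv => lhs; reduce)); intro _; exact ?xq9005 : List Lv)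

theorem ok_lvT : okQ nmT.length nmT lvT 2 1 = true := by decide +kernel

theorem okJ_lvT : okJ nmT.length lvT = true := by decide +kernel

/-- certificates -/
noncomputable def gT_2_0 : ℕ × ℕ × List Cert :=
  (by
  refine (?fq9006 : ((_root_.Prod.mk (nat_lit 2) (_root_.Prod.mk (nat_lit 21) (pk61l (fun i1 => (_root_.Cfsg.Agent.TAB.Eng.Cert.mk (pk61d (nat_lit 5) 
    (nat_lit 0xf7798baca4) i1) ((fun g1 : Nat → Nat => pk61l (fun i2 => (pk61f (pk61d (nat_lit 6) 
    (nat_lit 0x8607d654079d7144c06da4806584405d65503c051349140e34c2c03ce34c2ca2482822481c61401c61440c2040044003081000) i2) fun u15 => (pk61f (pk61d (nat_lit 2) 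
    (nat_lit 0xfd4fd4f4f4fd4ffd54ffff6554ffff9954) i2) fun t2_5 => (pk61c (Nat.div t2_5 (nat_lit 2)) (pk61c (Nat.div t2_5 (nat_lit 1)) _root_.Cfsg.Agent.TAB.Eng.Op.one fun _ => (_root_.Cfsg.Agent.TAB.Eng.Op.gen (pk61d (nat_lit 3) 
    (nat_lit 0x8201211a005680150) u15) (pk61d (nat_lit 2) 
    (nat_lit 0x1555555d55d5) u15) (pk61d (nat_lit 1) 
    (nat_lit 0x410) u15))) fun _ => (pk61c (Nat.div t2_5 (nat_lit 3)) (_root_.Cfsg.Agent.TAB.Eng.Op.mul (pk61d (nat_lit 3) 
    (nat_lit 0x12b) u15) (pk61d (nat_lit 3) 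
    (nat_lit 0x101) u15)) fun _ => (_root_.Cfsg.Agent.TAB.Eng.Op.lin ((fun g2 : Nat → Nat => pk61l (fun i3 => (_root_.Prod.mk (pk61d (nat_lit 21) 
    (nat_lit 0xfc498cb2365aaaaa7c726c55474000037ffff800036db6ddffffe00002000009555560000600001051eb800008000028a3d76147d1ca1b0a86bbabca700000a117eddf55b9f5cda32ffb9a012e6551555553580d94fe63071a9e1993db8f72f8e48f8e780000163f5af174e22f216cff287e9421cf5ab1bd6a200007ae9c1b7e4f9aae34aa17954c45cf520d20fddd4d05cadc901de9896c1598207b4ce0fdfda0dc514dd8eea103c0cb40774015555836a5241a8b393637a679075cbc26d0015ce00000010d82d8666898653272256b1fe8bfc6d5e26d91efa84179c2dfacb1dc1f7fa27078731b0cfa7a490bfd7aaad78efd51bf8be8189b83c560a1702964141672d7f141a42559a12fc391d22b73f747a071e922a5d96e41949659ef235b3ce17ec) i3) (pk61d (nat_lit 4) 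
    (nat_lit 0x413012423012201201413012837356234501234ecd5bc45ab5789a346789123567801234567ecd6bc79ab4689a4567891234567801234567) i3))) (g2 u15) (g2 (Nat.succ u15)) List.nil) fun j => (pk61d (nat_lit 7) 
    (nat_lit 0x1c37edd5a73e4c78705ebb6ec57ab4a749911a1bf74d16a54888f9b2c40400) j)))))))) (g1 i1) (g1 (Nat.succ i1)) List.nil) fun j => (pk61d (nat_lit 7) 
    (nat_lit 0x447ce1a305480800) j)) ((fun g1 : Nat → Nat => pk61l (fun i2 => (_root_.Prod.mk (pk61d (nat_lit 3) 
    (nat_lit 0x11088208444688fac688fac688) i2) (pk61d (nat_lit 7) 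
    (nat_lit 0x20402082010404101081009008204014021040408100110804088020401) i2))) (g1 i1) (g1 (Nat.succ i1)) List.nil) fun j => (pk61d (nat_lit 6) 
    (nat_lit 0x227dc698550200) j)))) (nat_lit 0) (nat_lit 8) List.nil))) : ℕ × ℕ × List Cert)
    = ?xq9006 → (ℕ × ℕ × List Cert)) ?hq9006; (case hq9006 => (set_option maxRecDepth 1000000 in conv => lhs; reduce)); intro _; exact ?xq9006 : ℕ × ℕ × List Cert)

theorem ok_gT_2_0 : chkQ DT gT_2_0.1 gT_2_0.2.1 (gT_2_0.1 ^ gT_2_0.2.1) seedsT gT_2_0.2.2 (ntd colsT []) 94 = true := by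
  decide +kernel

/-- certificates -/
noncomputable def gT_2_1 : ℕ × ℕ × List Cert :=
  (by
  refine (?fq9007 : ((_root_.Prod.mk (nat_lit 2) (_root_.Prod.mk (nat_lit 21) (pk61l (fun i1 => (_root_.Cfsg.Agent.TAB.Eng.Cert.mk (pk61d (nat_lit 7) 
    (nat_lit 0x8909ab4629101f) i1) ((fun g1 : Nat → Nat => pk61l (fun i2 => (pk61f (pk61d (nat_lit 5) 
    (nat_lit 0x9c9608c1407b9a94018b3814930107280c5210601882010400) i2) fun u15 => (pk61f (pk61d (nat_lit 2) 
    (nat_lit 0xa4a4a94a4a4a4a94aa54) i2) fun t2_5 => (pk61c (Nat.div t2_5 (nat_lit 1)) _root_.Cfsg.Agent.TAB.Eng.Op.one fun _ => (pk61c (Nat.div t2_5 (nat_lit 2)) (_root_.Cfsg.Agent.TAB.Eng.Op.gen (pk61d (nat_lit 2) 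
    (nat_lit 0x8c2880) u15) (pk61d (nat_lit 2) 
    (nat_lit 0x55575d) u15) (pk61d (nat_lit 1) 
    (nat_lit 0x4) u15)) fun _ => (_root_.Cfsg.Agent.TAB.Eng.Op.lin ((fun g2 : Nat → Nat => pk61l (fun i3 => (_root_.Prod.mk (pk61d (nat_lit 21) 
    (nat_lit 0x17ffff800008000037ffff80003000005aaaab8000516969b4b4ae5a5b2000017ffffc0000c000023333300001000006ffffe0000400000d5717ff02aca83dfe0b3655f094000031555580006024925b6db1a4946d4bda5497b6aaaa84555f) i3) (pk61d (nat_lit 3) 
    (nat_lit 0x20503130520502818982b4a5c053) i3))) (g2 u15) (g2 (Nat.succ u15)) List.nil) fun j => (pk61d (nat_lit 6) 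
    (nat_lit 0x2592285f79c6585954d240f34a247100) j)))))))) (g1 i1) (g1 (Nat.succ i1)) List.nil) fun j => (pk61d (nat_lit 6) 
    (nat_lit 0x2892069648e200) j)) ((fun g1 : Nat → Nat => pk61l (fun i2 => (_root_.Prod.mk (pk61d (nat_lit 2) 
    (nat_lit 0x44911124e4) i2) (pk61d (nat_lit 4) 
    (nat_lit 0x21414412121414418881) i2))) (g1 i1) (g1 (Nat.succ i1)) List.nil) fun j => (pk61d (nat_lit 5) 
    (nat_lit 0x14941ab49c80) j)))) (nat_lit 0) (nat_lit 8) List.nil))) : ℕ × ℕ × List Cert)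
    = ?xq9007 → (ℕ × ℕ × List Cert)) ?hq9007; (case hq9007 => (set_option maxRecDepth 1000000 in conv => lhs; reduce)); intro _; exact ?xq9007 : ℕ × ℕ × List Cert)

theorem ok_gT_2_1 : chkQ DT gT_2_1.1 gT_2_1.2.1 (gT_2_1.1 ^ gT_2_1.2.1) seedsT gT_2_1.2.2 (ntd colsT []) 94 = true := by
  decide +kernel

/-- certificates -/
noncomputable def gT_3_0 : ℕ × ℕ × List Cert :=
  (by
  refine (?fq9008 : ((_root_.Prod.mk (nat_lit 3) (_root_.Prod.mk (nat_lit 16) (pk61l (fun i1 => (_root_.Cfsg.Agent.TAB.Eng.Cert.mk (pk61d (nat_lit 5) 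
    (nat_lit 0x19c5d6a4a041) i1) ((fun g1 : Nat → Nat => pk61l (fun i2 => (pk61f (pk61d (nat_lit 6) 
    (nat_lit 0xc70900bee8c0b6cae2840aa9a279a07de7409648e28607de75c6da6585d654071b6996144d24405d655440f3804d24503ce34c0cd30b2892002ca2481c61440c2040081007185103081000) i2) fun u15 => (pk61f (pk61d (nat_lit 2) 
    (nat_lit 0xf4f4fd4ffd54ffffd5554ffd54ff54ffff9554ffffffa95554) i2) fun t2_5 => (pk61c (Nat.div t2_5 (nat_lit 2)) (pk61c (Nat.div t2_5 (nat_lit 1)) _root_.Cfsg.Agent.TAB.Eng.Op.one fun _ => (_root_.Cfsg.Agent.TAB.Eng.Op.gen (pk61d (nat_lit 3) 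
    (nat_lit 0x4c08c06846821034188d06858d0) u15) (pk61d (nat_lit 3) 
    (nat_lit 0x124924c49124a449252249491249) u15) (pk61d (nat_lit 1) 
    (nat_lit 0x100000000) u15))) fun _ => (pk61c (Nat.div t2_5 (nat_lit 3)) (_root_.Cfsg.Agent.TAB.Eng.Op.mul (pk61d (nat_lit 4) 
    (nat_lit 0x5987) u15) (pk61d (nat_lit 3) 
    (nat_lit 0xbff) u15)) fun _ => (_root_.Cfsg.Agent.TAB.Eng.Op.lin ((fun g2 : Nat → Nat => pk61l (fun i3 => (_root_.Prod.mk (pk61d (nat_lit 26) 
    (nat_lit 0x5b5e4d536bc9bc00000177bc92963c9f10000006394316835e415ad6c381f9a9c0000009000000413e77e9548329ef187f442d0c1d1fd476974fda709c6681a7664c0ca9b63c3018875f157378dfe57b56a000002400000133693667e8b634678c38af1978211a76230bc5520763c2272869110eab859b51a9eace4d1a3c7e36bc9ad63c9ef7941cfcb34a127239204daf26b22916b027b9314525015773be558619a68e221741291d0207e01866a54cb4da358774bb5bc6162555139505e4bb79f2fa6569e09199c3bc7971a550066328adeea1339e39c846d806eadba7ed7cf6a29c3c00000153688a543352178f1ed1bc6d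923033e11a5d686691832d1ca1298d95d4d53a07c1d21ab46ae0f312b13fdc690bc00000046d79356d7936a3ebc5936bc97cdaf2835f55494e98b202f70404000001a232d2010180d9abd2dda50acc0a22ed01f68c9987088e7c7b180c631a4ecb4963979a7c98bcbc2a8944050f8729888e61ffece20aad6c973d10d5f16595a62c8965b5fc0a96ca46617f4a10b34a7611d967e2a6a914995926282f784b00dbdf1168278d2a129ac615df1fded931e22e570d7f3bfb00000067f6d5e4a87fdc6a24b85344b6000001b7cf30a8cf88646cfddade110e84901e08472e5d38166fd8dc17e94331426a84d9075f5f5df33d635c6ea5b658d4838ad3ce6a5b41315c988846d70d139406309999c96438a4d0b44a2062c389d076e925bd5cb69775a370913d7d44953f6257bdc71f9ff75ab4deb7df65ed9d36f771f8501ba7da25e2bad805318a429ddde77e62d9b7ab9a7ac08926c9d9c54e11d285418d61b5634516c40136cf5365f80a3cf0284f40c29f802f751234da32d12688599e211529546e56e9777b4638a4a70f80cd6440e4b81b7ce41dfdbea698ee160e61328838ee2f5967c785c4c48934e19158ea0e1766a4093338c264105d2200) i3) (pk61d (nat_lit 5) 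
    (nat_lit 0x100220048218022418e4298232140110c906bd8d7196c69d0a5b0e84a843298e84a843214c74240110c8531d0831c853086428022190c4288640086e634eb61d2a58ca642543214e848443218e800443214c7b4eb1951b08cdcf8464c6b9f08994b635cf81d2a5b1ae794c84a96c6b843214e84a96c68864298e84a96c00443214c74254b) i3))) (g2 u15) (g2 (Nat.succ u15)) List.nil) fun j => (pk61d (nat_lit 8) 
    (nat_lit 0xd4d3d1d0cecdcbc8c7c5c2beb9b8b6b3afaaa69e968d8c8a87837e7d7b787574726f6b655f58504f4d4a46413b332b22170c00) j)))))))) (g1 i1) (g1 (Nat.succ i1)) List.nil) fun j => (pk61d (nat_lit 7) 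
    (nat_lit 0x3260b95a63a60a0c00) j)) ((fun g1 : Nat → Nat => pk61l (fun i2 => (_root_.Prod.mk (pk61d (nat_lit 4) 
    (nat_lit 0x10102104321087654321043210321076543210ba9876543210) i2) (pk61d (nat_lit 8) 
    (nat_lit 0x3010301090301091b0903011b0909511b09030301090909090109030301511b09f351511b011b1b1b091bf3511b091b0301) i2))) (g1 i1) (g1 (Nat.succ i1)) List.nil) fun j => (pk61d (nat_lit 6) 
    (nat_lit 0xcb0bab99d614300) j)))) (nat_lit 0) (nat_lit 9) List.nil))) : ℕ × ℕ × List Cert)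
    = ?xq9008 → (ℕ × ℕ × List Cert)) ?hq9008; (case hq9008 => (set_option maxRecDepth 1000000 in conv => lhs; reduce)); intro _; exact ?xq9008 : ℕ × ℕ × List Cert)

theorem ok_gT_3_0 : chkQ DT gT_3_0.1 gT_3_0.2.1 (gT_3_0.1 ^ gT_3_0.2.1) seedsT gT_3_0.2.2 (ntd colsT []) 94 = true := by
  decide +kernel

/-- certificates -/
noncomputable def gT_3_1 : ℕ × ℕ × List Cert :=
  (by
  refine (?fq9009 : ((_root_.Prod.mk (nat_lit 3) (_root_.Prod.mk (nat_lit 16) (pk61l (fun i1 => (_root_.Cfsg.Agent.TAB.Eng.Cert.mk (pk61d (nat_lit 7) 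
    (nat_lit 0x4066c98a44688d9a) i1) ((fun g1 : Nat → Nat => pk61l (fun i2 => (pk61f (pk61d (nat_lit 5) 
    (nat_lit 0x293582515020f481cd620e05a8c04a0a039880290601882010400) i2) fun u15 => (pk61f (pk61d (nat_lit 2) 
    (nat_lit 0xa4a4a4a94a4a4a4a4aa54) i2) fun t2_5 => (pk61c (Nat.div t2_5 (nat_lit 1)) _root_.Cfsg.Agent.TAB.Eng.Op.one fun _ => (pk61c (Nat.div t2_5 (nat_lit 2)) (_root_.Cfsg.Agent.TAB.Eng.Op.gen (pk61d (nat_lit 3) 
    (nat_lit 0x1020188c0) u15) (pk61d (nat_lit 2) 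
    (nat_lit 0x555569) u15) (nat_lit 0)) fun _ => (_root_.Cfsg.Agent.TAB.Eng.Op.lin ((fun g2 : Nat → Nat => pk61l (fun i3 => (_root_.Prod.mk (pk61d (nat_lit 26) 
    (nat_lit 0x16d79354daf26f0000005b5e4d5000000c0000016d79355b5e4db0000005b5e4d5000001800000136bc9a00000080000005b5e4d5000000c000001021af267fffb20000005b5e4d536bc9bc00000104f9df800000300000046d7935000001a3ebc595fca0e400000c1dacc1dabfff21f14228000009) i3) (pk61d (nat_lit 3) 
    (nat_lit 0x205028189829028140a074a9c053) i3))) (g2 u15) (g2 (Nat.succ u15)) List.nil) fun j => (pk61d (nat_lit 6) 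
    (nat_lit 0x9648a17de71b6565534903cd30a247100) j)))))))) (g1 i1) (g1 (Nat.succ i1)) List.nil) fun j => (pk61d (nat_lit 6) 
    (nat_lit 0xaa689e61440c200) j)) ((fun g1 : Nat → Nat => pk61l (fun i2 => (_root_.Prod.mk (pk61d (nat_lit 2) 
    (nat_lit 0x111244444e4) i2) (pk61d (nat_lit 4) 
    (nat_lit 0x313131931313131319331) i2))) (g1 i1) (g1 (Nat.succ i1)) List.nil) fun j => (pk61d (nat_lit 5) 
    (nat_lit 0x2b38bd8a41880) j)))) (nat_lit 0) (nat_lit 9) List.nil))) : ℕ × ℕ × List Cert)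
    = ?xq9009 → (ℕ × ℕ × List Cert)) ?hq9009; (case hq9009 => (set_option maxRecDepth 1000000 in conv => lhs; reduce)); intro _; exact ?xq9009 : ℕ × ℕ × List Cert)

theorem ok_gT_3_1 : chkQ DT gT_3_1.1 gT_3_1.2.1 (gT_3_1.1 ^ gT_3_1.2.1) seedsT gT_3_1.2.2 (ntd colsT []) 94 = true := by
  decide +kernel

/-- certificates -/
noncomputable def gT_5_0 : ℕ × ℕ × List Cert :=
  (by
  refine (?fq9010 : ((_root_.Prod.mk (nat_lit 5) (_root_.Prod.mk (nat_lit 2) (pk61l (fun i1 => (_root_.Cfsg.Agent.TAB.Eng.Cert.mk (pk61d (nat_lit 6) 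
    (nat_lit 0x2e817554289185102040) i1) ((fun g1 : Nat → Nat => pk61l (fun i2 => (pk61f (pk61d (nat_lit 5) 
    (nat_lit 0x4e490460803dc70358602d450250401cc301482000620800100000) i2) fun u15 => (pk61f (pk61d (nat_lit 2) 
    (nat_lit 0x29292929292929290a4290) i2) fun t2_5 => (pk61c (Nat.div t2_5 (nat_lit 1)) _root_.Cfsg.Agent.TAB.Eng.Op.one fun _ => (pk61c (Nat.div t2_5 (nat_lit 2)) (_root_.Cfsg.Agent.TAB.Eng.Op.gen (pk61d (nat_lit 2) 
    (nat_lit 0x280a) u15) (pk61d (nat_lit 2) 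
    (nat_lit 0x55955) u15) (nat_lit 0)) fun _ => (_root_.Cfsg.Agent.TAB.Eng.Op.lin ((fun g2 : Nat → Nat => pk61l (fun i3 => (_root_.Prod.mk (pk61d (nat_lit 5) 
    (nat_lit 0x2d884250848108c21a04250c58189421a05b8) i3) (pk61d (nat_lit 2) 
    (nat_lit 0x861861861861861) i3))) (g2 u15) (g2 (Nat.succ u15)) List.nil) fun j => (pk61d (nat_lit 5) 
    (nat_lit 0x1eeef58bd6928bdcc5a50628c40) j)))))))) (g1 i1) (g1 (Nat.succ i1)) List.nil) fun j => (pk61d (nat_lit 6) 
    (nat_lit 0xae78df6d74cf2ca185040) j)) ((fun g1 : Nat → Nat => pk61l (fun i2 => (_root_.Prod.mk (pk61d (nat_lit 1) 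
    (nat_lit 0x555524) i2) (pk61d (nat_lit 3) 
    (nat_lit 0x14d34d34d34d269349) i2))) (g1 i1) (g1 (Nat.succ i1)) List.nil) fun j => (pk61d (nat_lit 5) 
    (nat_lit 0x2f59c5ed5a4e620c20) j)))) (nat_lit 0) (nat_lit 13) List.nil))) : ℕ × ℕ × List Cert)
    = ?xq9010 → (ℕ × ℕ × List Cert)) ?hq9010; (case hq9010 => (set_option maxRecDepth 1000000 in conv => lhs; reduce)); intro _; exact ?xq9010 : ℕ × ℕ × List Cert)

theorem ok_gT_5_0 : chkQ DT gT_5_0.1 gT_5_0.2.1 (gT_5_0.1 ^ gT_5_0.2.1) seedsT gT_5_0.2.2 (ntd colsT []) 94 = true := by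
  decide +kernel

/-- certificates -/
noncomputable def gT_7_0 : ℕ × ℕ × List Cert :=
  (by
  refine (?fq9011 : ((_root_.Prod.mk (nat_lit 7) (_root_.Prod.mk (nat_lit 3) (pk61l (fun i1 => (_root_.Cfsg.Agent.TAB.Eng.Cert.mk (pk61d (nat_lit 5) 
    (nat_lit 0x2b45a4e520820) i1) (pk61l (fun i2 => (pk61f (pk61d (nat_lit 5) 
    (nat_lit 0x9c9208c1007b8e06b0c05a8a04a08039860290401882008000) i2) fun u15 => (pk61f (pk61d (nat_lit 2) 
    (nat_lit 0xa4a4a4a4a4a4a4a4a4a4) i2) fun t2_5 => (pk61c (Nat.div t2_5 (nat_lit 1)) _root_.Cfsg.Agent.TAB.Eng.Op.one fun _ => (pk61c (Nat.div t2_5 (nat_lit 2)) (_root_.Cfsg.Agent.TAB.Eng.Op.gen (pk61d (nat_lit 2) 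
    (nat_lit 0xa00) u15) (nat_lit 1) (nat_lit 0)) fun _ => (_root_.Cfsg.Agent.TAB.Eng.Op.lin ((fun g2 : Nat → Nat => pk61l (fun i3 => (_root_.Prod.mk (pk61d (nat_lit 9) 
    (nat_lit 0x2a6090054c070089e6e018d90c02f7338068a4f0089c0e01a70d0024203804cef5) i3) (pk61d (nat_lit 2) 
    (nat_lit 0x861861861861861) i3))) (g2 u15) (g2 (Nat.succ u15)) List.nil) fun j => (pk61d (nat_lit 5) 
    (nat_lit 0x1eeef58bd6928bdcc5a50628c40) j)))))))) (Nat.mul (nat_lit 4) i1) (Nat.mul (nat_lit 4) (Nat.succ i1)) List.nil) (pk61l (fun i2 => (_root_.Prod.mk (pk61d (nat_lit 1) 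
    (nat_lit 0xaaaaa) i2) (pk61d (nat_lit 3) 
    (nat_lit 0xe79e79e79e79e79) i2))) (Nat.mul (nat_lit 2) i1) (Nat.mul (nat_lit 2) (Nat.succ i1)) List.nil))) (nat_lit 0) (nat_lit 10) List.nil))) : ℕ × ℕ × List Cert)
    = ?xq9011 → (ℕ × ℕ × List Cert)) ?hq9011; (case hq9011 => (set_option maxRecDepth 1000000 in conv => lhs; reduce)); intro _; exact ?xq9011 : ℕ × ℕ × List Cert)

theorem ok_gT_7_0 : chkQ DT gT_7_0.1 gT_7_0.2.1 (gT_7_0.1 ^ gT_7_0.2.1) seedsT gT_7_0.2.2 (ntd colsT []) 94 = true := by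
  decide +kernel

/-- certificates -/
def gT_11_0 : ℕ × ℕ × List Cert := (11, 1,
  [⟨0, [.one], [(0, 1)]⟩, ⟨2, [.one], [(0, 1)]⟩, ⟨6, [.one], [(0, 1)]⟩])

theorem ok_gT_11_0 : chkQ DT gT_11_0.1 gT_11_0.2.1 (gT_11_0.1 ^ gT_11_0.2.1) seedsT gT_11_0.2.2 (ntd colsT []) 94 = true := by
  decide +kernel

/-- certificates -/
def gT_13_0 : ℕ × ℕ × List Cert := (13, 1,
  [⟨0, [.one], [(0, 1)]⟩, ⟨2, [.one], [(0, 1)]⟩, ⟨5, [.one], [(0, 1)]⟩, ⟨7, [.one], [(0, 1)]⟩])

theorem ok_gT_13_0 : chkQ DT gT_13_0.1 gT_13_0.2.1 (gT_13_0.1 ^ gT_13_0.2.1) seedsT gT_13_0.2.2 (ntd colsT []) 94 = true := by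
  decide +kernel

/-- certificates -/
def gT_17_0 : ℕ × ℕ × List Cert := (17, 1,
  [⟨0, [.one], [(0, 1)]⟩])

theorem ok_gT_17_0 : chkQ DT gT_17_0.1 gT_17_0.2.1 (gT_17_0.1 ^ gT_17_0.2.1) seedsT gT_17_0.2.2 (ntd colsT []) 94 = true := by
  decide +kernel

/-- certificates -/
def gT_23_0 : ℕ × ℕ × List Cert := (23, 1,
  [⟨0, [.one], [(0, 1)]⟩])

theorem ok_gT_23_0 : chkQ DT gT_23_0.1 gT_23_0.2.1 (gT_23_0.1 ^ gT_23_0.2.1) seedsT gT_23_0.2.2 (ntd colsT []) 94 = true := by
  decide +kernel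

/-- certificates -/
def gT_29_0 : ℕ × ℕ × List Cert := (29, 1,
  [⟨0, [.one], [(0, 1)]⟩])

theorem ok_gT_29_0 : chkQ DT gT_29_0.1 gT_29_0.2.1 (gT_29_0.1 ^ gT_29_0.2.1) seedsT gT_29_0.2.2 (ntd colsT []) 94 = true := by
  decide +kernel

/-- the certificates -/
noncomputable def gT : List (ℕ × ℕ × List Cert) :=
  [gT_2_0, gT_2_1, gT_3_0, gT_3_1, gT_5_0, gT_7_0, gT_11_0, gT_13_0, gT_17_0, gT_23_0, gT_29_0]

theorem ok_gT : ∀ y ∈ gT, chkQ DT y.1 y.2.1 (y.1 ^ y.2.1) seedsT y.2.2 (ntd colsT []) 94 = true :=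
  List.forall_mem_cons.2 ⟨ok_gT_2_0, List.forall_mem_cons.2 ⟨ok_gT_2_1, List.forall_mem_cons.2 ⟨ok_gT_3_0,
  List.forall_mem_cons.2 ⟨ok_gT_3_1, List.forall_mem_cons.2 ⟨ok_gT_5_0, List.forall_mem_cons.2 ⟨ok_gT_7_0,
  List.forall_mem_cons.2 ⟨ok_gT_11_0, List.forall_mem_cons.2 ⟨ok_gT_13_0, List.forall_mem_cons.2 ⟨ok_gT_17_0,
  List.forall_mem_cons.2 ⟨ok_gT_23_0, List.forall_mem_cons.2 ⟨ok_gT_29_0, List.forall_mem_nil _⟩⟩⟩⟩⟩⟩⟩⟩⟩⟩⟩

/-- certificates -/
noncomputable def bT_2_0 : ℕ × ℕ × List Cert :=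
  (by
  refine (?fq9012 : ((_root_.Prod.mk (nat_lit 2) (_root_.Prod.mk (nat_lit 21) (pk61l (fun i1 => (_root_.Cfsg.Agent.TAB.Eng.Cert.mk (pk61d (nat_lit 3) 
    (nat_lit 0xf98) i1) ((fun g1 : Nat → Nat => pk61l (fun i2 => (pk61f (pk61d (nat_lit 5) 
    (nat_lit 0x1ace2f394416ad2728c20f7358b03dcd62d4a4a0e60250731483104050808310400) i2) fun u15 => (pk61f (pk61d (nat_lit 2) 
    (nat_lit 0x3fd53fff5553ffd553ffffda554) i2) fun t2_5 => (pk61c (Nat.div t2_5 (nat_lit 2)) (pk61c (Nat.div t2_5 (nat_lit 1)) _root_.Cfsg.Agent.TAB.Eng.Op.one fun _ => (_root_.Cfsg.Agent.TAB.Eng.Op.gen (pk61d (nat_lit 3) 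
    (nat_lit 0x15215a12c4058d0) u15) (pk61d (nat_lit 2) 
    (nat_lit 0xd5d5555555) u15) (pk61d (nat_lit 1) 
    (nat_lit 0x10420) u15))) fun _ => (pk61c (Nat.div t2_5 (nat_lit 3)) (_root_.Cfsg.Agent.TAB.Eng.Op.mul (pk61d (nat_lit 3) 
    (nat_lit 0x2c) u15) (pk61d (nat_lit 3) 
    (nat_lit 0x4) u15)) fun _ => (_root_.Cfsg.Agent.TAB.Eng.Op.lin ((fun g2 : Nat → Nat => pk61l (fun i3 => (_root_.Prod.mk (pk61d (nat_lit 21) 
    (nat_lit 0x106da2d6e4134e38fa38e52aaaa24944533a51307bc9219c0000061a05b86af78e5d7905bfc7e69b0e2417abba64637219328eb751286ea54a5c9e1b8c31dfa8de534e4ca2bc1e7593c8e09f63a561000298280e836e657532d6bdbb713a282595c000007a93320000891714dc4e4b65070ceade5a24c335f8e79c943b3d5c8dd21d2a62d08992f76c544762a10d629d5dc70ec30000cffff8000020e0db2a8ec76f9fe5c8a83d8a0bc0f3e2a39b0eff1fc200433b9b7d12b4736aa7324a4b2609ddf264bc72c109dcc1287bc30aa6fba6f7bec60609e29dbccb3117516b9ae6514e6db529d05a927bcf7d4f6c66a6443ee5963fe5765556742033a3e32f887c18f70dbb1c663c119541579819ded0c8080f2aae45ecc06019d63df01505844b3401288100210)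 i3) (pk61d (nat_lit 5) 
    (nat_lit 0x621443200221b14b425433a123218e80886531c0110c85328e929904298e1190a6004432162f835cf431ae29d6c6990952d8429d0952c43218e84a822190a63a12008864298e8) i3))) (g2 u15) (g2 (Nat.succ u15)) List.nil) fun j => (pk61d (nat_lit 7) 
    (nat_lit 0xe3c376bcf9b261bb6294b95222c178d9ab360b13a13448480) j)))))))) (g1 i1) (g1 (Nat.succ i1)) List.nil) fun j => (pk61d (nat_lit 6) 
    (nat_lit 0x35b5f4c0) j)) ((fun g1 : Nat → Nat => pk61l (fun i2 => (_root_.Prod.mk (pk61d (nat_lit 4) 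
    (nat_lit 0x321065432105432109876543210) i2) (pk61d (nat_lit 13) 
    (nat_lit 0x10020040000804008001000401000200010080010040008004000404008001001020000200802000200001) i2))) (g1 i1) (g1 (Nat.succ i1)) List.nil) fun j => (pk61d (nat_lit 5) 
    (nat_lit 0x1bbc140) j)))) (nat_lit 0) (nat_lit 4) List.nil))) : ℕ × ℕ × List Cert)
    = ?xq9012 → (ℕ × ℕ × List Cert)) ?hq9012; (case hq9012 => (set_option maxRecDepth 1000000 in conv => lhs; reduce)); intro _; exact ?xq9012 : ℕ × ℕ × List Cert)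

theorem ok_bT_2_0 : chkQ DT bT_2_0.1 bT_2_0.2.1 (bT_2_0.1 ^ bT_2_0.2.1) seedsT bT_2_0.2.2 (cmbs colsT (rels lvT [])) (rels lvT []).length = true := by
  decide +kernel

/-- certificates -/
noncomputable def bT_3_0 : ℕ × ℕ × List Cert :=
  (by
  refine (?fq9013 : ((_root_.Prod.mk (nat_lit 3) (_root_.Prod.mk (nat_lit 16) (pk61l (fun i1 => (_root_.Cfsg.Agent.TAB.Eng.Cert.mk (nat_lit 0) (pk61l (fun i2 => (pk61f (pk61d (nat_lit 4) 
    (nat_lit 0xdcba98765432105543210432100) i2) fun u15 => (pk61f (pk61d (nat_lit 2) 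
    (nat_lit 0x3ffffffe6aa554) i2) fun t2_5 => (pk61c (Nat.div t2_5 (nat_lit 2)) (pk61c (Nat.div t2_5 (nat_lit 1)) _root_.Cfsg.Agent.TAB.Eng.Op.one fun _ => (_root_.Cfsg.Agent.TAB.Eng.Op.gen (pk61d (nat_lit 3) 
    (nat_lit 0x58d0) u15) (nat_lit 1) (pk61d (nat_lit 1) 
    (nat_lit 0x20) u15))) fun _ => (pk61c (Nat.div t2_5 (nat_lit 3)) (_root_.Cfsg.Agent.TAB.Eng.Op.mul (pk61d (nat_lit 4) 
    (nat_lit 0xa87654) u15) (pk61d (nat_lit 3) 
    (nat_lit 0x1524) u15)) fun _ => (_root_.Cfsg.Agent.TAB.Eng.Op.lin ((fun g2 : Nat → Nat => pk61l (fun i3 => (_root_.Prod.mk (pk61d (nat_lit 26) 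
    (nat_lit 0x195884353b877564dda0c55710b84c87924c79cc4b0abddbaefc23a1d94a6fd0b104b75904af13508499017721d00a6b20800dab92da2ae1cafdd9a06b34024db7d99878fdc3899085a71b54643da46a5278a23ff23b9d379a4e65e39e6e54f378e06ed86d46a5e7d1178a251b595c14888ad883b3840ddaae378a863962440bcfdb77199b69ef8844a2d2744435abc15b771426d74a312e4fdba5cdf4c7e74e39f8b93698e2d1896715662b60e057188ce9e1a573b6f74c926c12525b914288577b39b276867d414c2991cde8e4f575d8382b2a4cbc767c9014115a7835daa3ed60239333688bc4ebe8f27c056167e6b2769b57ca736a71416a2c5bd3c764a6f9d6ad2e821b1c29eea6f8547e2d20ede56518f125b5b3d369dc77992f4568ade5b1d2f9741607d306bd91e764811c96c8e2096a339ede7112716a7d81fbfc0348bde59a1692887be5f522569625ff88e9245) i3) (pk61d (nat_lit 5) 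
    (nat_lit 0x19be296bc275b4653a552e84653a35cf84653531ae7c2324256c6b9f089d0952d8d73e0531d0952d8d73c64298e84a96c6b822190a63a12a5b1a008864298e84a96c) i3))) (g2 u15) (g2 (Nat.succ u15)) List.nil) fun j => (pk61d (nat_lit 7) 
    (nat_lit 0x1a7466c77ed539911db14c68680) j)))))))) (nat_lit 0) (nat_lit 27) List.nil) (pk61l (fun i2 => (_root_.Prod.mk i2 (pk61d (nat_lit 20) 
    (nat_lit 0x510001b04ce3002d9002d90088b0001b000f30005181bf104ce3002d90001b00001) i2))) (nat_lit 0) (nat_lit 14) List.nil))) (nat_lit 0) (nat_lit 1) List.nil))) : ℕ × ℕ × List Cert)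
    = ?xq9013 → (ℕ × ℕ × List Cert)) ?hq9013; (case hq9013 => (set_option maxRecDepth 1000000 in conv => lhs; reduce)); intro _; exact ?xq9013 : ℕ × ℕ × List Cert)

theorem ok_bT_3_0 : chkQ DT bT_3_0.1 bT_3_0.2.1 (bT_3_0.1 ^ bT_3_0.2.1) seedsT bT_3_0.2.2 (cmbs colsT (rels lvT [])) (rels lvT []).length = true := by
  decide +kernel

/-- the certificates -/
noncomputable def bT : List (ℕ × ℕ × List Cert) :=
  [bT_2_0, bT_3_0]

theorem ok_bT : ∀ y ∈ bT, chkQ DT y.1 y.2.1 (y.1 ^ y.2.1) seedsT y.2.2 (cmbs colsT (rels lvT [])) (rels lvT []).length = true :=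
  List.forall_mem_cons.2 ⟨ok_bT_2_0, List.forall_mem_cons.2 ⟨ok_bT_3_0, List.forall_mem_nil _⟩⟩

/-- the primes and the nontrivial sections -/
noncomputable def PLT : List (ℕ × ℕ × List ℕ) :=
  (by
  refine (?fq9014 : ((pk61l (fun i1 => (_root_.Prod.mk (pk61d (nat_lit 5) 
    (nat_lit 0x1dbc5ab39462) i1) (_root_.Prod.mk (pk61d (nat_lit 5) 
    (nat_lit 0x10842118a15) i1) ((fun g1 : Nat → Nat => pk61l (fun i2 => (pk61d (nat_lit 7) 
    (nat_lit 0x70a080060400a94162438508080805c80b9528284860a1010101019b262911a23668c982e2c50910080808909ab4629101f3c74e182e2c3860a10180) i2)) (g1 i1) (g1 (Nat.succ i1)) List.nil) fun j => (pk61d (nat_lit 7) 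
    (nat_lit 0x24478d160be689ca00) j))))) (nat_lit 0) (nat_lit 9) List.nil) : List (ℕ × ℕ × List ℕ))
    = ?xq9014 → (List (ℕ × ℕ × List ℕ))) ?hq9014; (case hq9014 => (set_option maxRecDepth 1000000 in conv => lhs; reduce)); intro _; exact ?xq9014 : List (ℕ × ℕ × List ℕ))

theorem okPLT : okPrimes DT PLT = true := by decide +kernel

theorem allT : (PLT.all fun x => x.2.2.all fun t => hasQ gT x.1 t || hasQ bT x.1 t) = true := by decide +kernel

end Cfsg.Agent.TAB.F24
end

-- part: TAB/F24/Use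
section
set_option linter.all false
open scoped Cfsg.Agent.FastGrp

/-!
# The table of `Fi₂₄'` and its consequences (helper16, TAB)
-/

set_option autoImplicit false
set_option maxRecDepth 100000

namespace Cfsg.Agent.TAB.F24

open Cfsg Cfsg.Agent.TAB.Eng Cfsg.Agent.TAB.Use Cfsg.Agent.TAB.Cov

universe u

/-- the table -/
noncomputable def tabT : Rows := mkR colsT degs consT

theorem van_chk : vanB DT tabT [(2, 21), (3, 16), (5, 2), (7, 3), (11, 1), (13, 1), (17, 1), (23, 1), (29, 1)]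
    2 68 70 = true := by decide +kernel

theorem odd_chk : ((List.range tabT.n).all fun j => tabT.d j % 2 == 0 || fixB tabT [70, 83] j) = true := by
  decide +kernel

theorem cnt_pos : ∀ i < DT.n, 0 < DT.cnt i := by decide +kernel

theorem virt_one {G : Type u} [Group G] {D : Dat} (T : TD G D) : Virt T (nth (List.replicate D.n 1)) :=
  (Virt.const 1).congr fun t ht => by
    rw [nth_eq, List.getD_eq_getElem _ _ (by simpa using ht), List.getElem_replicate]

section generic

variable {G : Type u} [Group G] [Finite G] {T : TD G DT} {al : MulAut G}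

theorem virtT (hm : T.Mass) (hr : RatA T al) (h2 : ∀ g, al (al g) = g) (hv : Virt T (nth piL)) :
    ∀ j < nmT.length, Virt T (rw colsT j) :=
  virt_glueC hm (orth_of_chkG okLenT (takeT.symm ▸ gramT)) ok_lvT okJ_lvT
    (virt_two hm.1 okLenT okPLT (virt_chkSd hm hr h2 (List.forall_mem_cons.2 ⟨hv, List.forall_mem_cons.2
      ⟨virt_one T, List.forall_mem_nil _⟩⟩) ok_sdT) ok_gT ok_bT allT (okQ_lt ok_lvT))

theorem tabOf (hm : T.Mass) (hr : RatA T al) (h2 : ∀ g, al (al g) = g) (hv : Virt T (nth piL)) : Tab T tabT :=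
  tab_of_sep hm okLenT gramT finT fun j hj => virtT hm hr h2 hv j (by rwa [List.length_map] at hj)

end generic

variable {X : Type} [Group X] [Finite X]

theorem Mn.finite (M : Mn X) : Finite Spor.Fi24' := Finite.of_surjective _ M.surj

theorem Mn.tab (M : Mn X) : Tab M.T' tabT :=
  have := M.finite
  tabOf M.mass' M.rat' M.al_al' M.vT

theorem Mn.inh (M : Mn X) : Inh M.T' := inh_of_mass M.mass' cnt_pos

theorem Mn.odd (M : Mn X) : OddRat Spor.Fi24' :=
  have := M.finite
  M.tab.oddRat M.inh _ (by decide +kernel) odd_chk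

/-- **the table of `Fi₂₄'`** -/
theorem tab (h : In0) : ∃ T : TD Spor.Fi24' DT, T.Mass ∧ Inh T ∧ Tab T tabT := by
  obtain ⟨X, _, _, ⟨M⟩⟩ := h
  exact ⟨M.T', M.mass', M.inh, M.tab⟩

theorem van_of (h : In0) : VAN.Van3 Spor.Fi24' := by
  obtain ⟨X, _, _, ⟨M⟩⟩ := h
  have := M.finite
  exact M.tab.van3 M.inh M.mass'.1 _ (by norm_num) _ _ _ van_chk

theorem odd_of (h : In0) : OddRat Spor.Fi24' := by
  obtain ⟨X, _, _, ⟨M⟩⟩ := h
  exact M.odd

theorem sig_of (h : In0) : OddSig Spor.Fi24' := by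
  obtain ⟨X, _, _, ⟨M⟩⟩ := h
  have := M.finite
  obtain ⟨g, h1, h2⟩ := M.cj (83, 2) (by decide)
  exact M.tab.oddSig M.inh [(70, 0, 23, 5)] (by decide +kernel) [83]
    (List.forall_mem_singleton.2 ⟨g, 0, 33, 2, h1, by decide +kernel, h2⟩) odd_chk

theorem deg_of (h : In0) : DegList Spor.Fi24' degs := by
  obtain ⟨X, _, _, ⟨M⟩⟩ := h
  exact M.tab.degList

end Cfsg.Agent.TAB.F24
end

-- part: TAB/F24C/DZ
section
set_option linter.all false

/-!
# `Fi₂₄'` and `3.Fi₂₄'` : the boxes d and o, the interface (helper51, TAB)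
-/

set_option autoImplicit false

namespace Cfsg.Agent.TAB.F24C

/-- **the box d** -/
theorem boxD : BoxD Y := D.boxD_of fixY fix3Y c83Y

/-- **the box o** -/
theorem boxO : BoxO Y := boxO_of boxD

/-- **the interface** -/
theorem inF24 : F24.In := in_of_d boxD

end Cfsg.Agent.TAB.F24C
end
end
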